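import Cfsg.Agent.H86.PrimeGraph.Triangle
import Cfsg.Agent.H55.SLTwoClasses
import Cfsg.Agent.Arith.LargePrimDiv

/-!
# The prime graph of `PSL(2, 2^n)` and arithmetic of its order
-/

set_option autoImplicit false
set_option linter.style.haveILetI false

namespace Cfsg.Agent.H86.PrimeGraph

open Matrix

section psl

variable {F : Type*} [Field F] [Fintype F] {n : ℕ}

theorem card_psl_two_even (hn : 1 ≤ n) (hF : Fintype.card F = 2 ^ n) :
    Nat.card (ProjectiveSpecialLinearGroup (Fin 2) F) = 2 ^ n * (2 ^ (2 * n) - 1) := by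
  have h := Linear.card_PSL_two_mul (F := F)
  have he : 2 ^ n % 2 = 0 := by
    obtain ⟨k, rfl⟩ : ∃ k, n = k + 1 := ⟨n - 1, by omega⟩
    rw [pow_succ]; omega
  have hcop : Nat.gcd 2 (Fintype.card F - 1) = 1 := by
    have := Nat.one_le_two_pow (n := n)
    exact Nat.coprime_two_left.2 (Nat.odd_iff.2 (by omega))
  rwa [hcop, one_mul, hF, ← pow_mul, mul_comm n 2] at h

theorem orderOf_psl_two_even (hn : 1 ≤ n) (hF : Fintype.card F = 2 ^ n)
    (g : ProjectiveSpecialLinearGroup (Fin 2) F) :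
    orderOf g ∣ 2 ∨ orderOf g ∣ 2 ^ n - 1 ∨ orderOf g ∣ 2 ^ n + 1 := by
  haveI : Fact (Nat.Prime 2) := ⟨Nat.prime_two⟩
  haveI : CharP F 2 := by
    obtain ⟨p, hp⟩ := CharP.exists F
    obtain ⟨k, hpp, hk⟩ := FiniteField.card F p
    rw [hF] at hk
    obtain rfl : p = 2 := (Nat.prime_dvd_prime_iff_eq hpp Nat.prime_two).1
      (hpp.dvd_of_dvd_pow (hk.symm ▸ dvd_pow_self p k.ne_zero))
    exact hp
  obtain ⟨X, rfl⟩ := QuotientGroup.mk'_surjective _ g
  have he : 2 ^ n % 2 = 0 := by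
    obtain ⟨k, rfl⟩ : ∃ k, n = k + 1 := ⟨n - 1, by omega⟩
    rw [pow_succ]; omega
  have hcop : Nat.gcd 2 (Fintype.card F - 1) = 1 := by
    have := Nat.one_le_two_pow (n := n)
    exact Nat.coprime_two_left.2 (Nat.odd_iff.2 (by omega))
  have h := H55.toPSL_two_orderOf_dvd (F := F) 2 X
  rwa [hcop, Nat.div_one, Nat.div_one, hF] at h

theorem noEdge_psl_two (hn : 1 ≤ n) (hF : Fintype.card F = 2 ^ n) {r : ℕ} (hr : r.Prime)
    (h2 : r ≠ 2) : NoEdge (ProjectiveSpecialLinearGroup (Fin 2) F) 2 r := by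
  intro g hg
  have hodd : ∀ N : ℕ, N % 2 = 1 → ¬ 2 * r ∣ N := fun N hN hd => by
    have := (dvd_mul_right 2 r).trans hd
    omega
  have he : 2 ^ n % 2 = 0 := by
    obtain ⟨k, rfl⟩ : ∃ k, n = k + 1 := ⟨n - 1, by omega⟩
    rw [pow_succ]; omega
  have := Nat.one_le_two_pow (n := n)
  rcases orderOf_psl_two_even hn hF g with h | h | h <;> rw [hg] at h
  · exact h2 ((Nat.prime_dvd_prime_iff_eq hr Nat.prime_two).1 ((dvd_mul_left r 2).trans h))
  · exact hodd _ (by omega) h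
  · exact hodd _ (by omega) h

theorem noEdge_psl_split (hn : 1 ≤ n) (hF : Fintype.card F = 2 ^ n) {r s : ℕ} (hr : r.Prime)
    (hs : s.Prime) (hr2 : r ≠ 2) (hs2 : s ≠ 2) (hrq : r ∣ 2 ^ n - 1) (hsq : s ∣ 2 ^ n + 1) :
    NoEdge (ProjectiveSpecialLinearGroup (Fin 2) F) r s := by
  intro g hg
  have hsep : ∀ p : ℕ, p.Prime → p ∣ 2 ^ n - 1 → p ∣ 2 ^ n + 1 → p = 2 := by
    intro p hp h1 h2
    refine (Nat.prime_dvd_prime_iff_eq hp Nat.prime_two).1 ?_
    have h4 := Nat.dvd_sub h2 h1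
    have := Nat.one_le_two_pow (n := n)
    rwa [show 2 ^ n + 1 - (2 ^ n - 1) = 2 by omega] at h4
  rcases orderOf_psl_two_even hn hF g with h | h | h <;> rw [hg] at h
  · exact hr2 ((Nat.prime_dvd_prime_iff_eq hr Nat.prime_two).1 ((dvd_mul_right r s).trans h))
  · exact hs2 (hsep s hs ((dvd_mul_left s r).trans h) hsq)
  · exact hr2 (hsep r hr hrq ((dvd_mul_right r s).trans h))

end psl

/-- `2 ^ (2 n) - 1` factors. -/
theorem two_pow_two_mul_sub_one (n : ℕ) : 2 ^ (2 * n) - 1 = (2 ^ n - 1) * (2 ^ n + 1) := by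
  rw [mul_comm 2 n, pow_mul, mul_comm, show (2 ^ n) ^ 2 - 1 = (2 ^ n) ^ 2 - 1 ^ 2 by rw [one_pow],
    Nat.sq_sub_sq]

/-- The order of `2` modulo a prime `2^k + 1` or `2^k - 1`. -/
theorem dvd_of_special_prime {p k j : ℕ} (hp : p.Prime) (hk : 1 ≤ k)
    (hd : p ∣ 2 ^ j - 1) : (p = 2 ^ k + 1 → 2 * k ∣ j) ∧ (p + 1 = 2 ^ k → k ∣ j) := by
  have hbig : ∀ i, 1 ≤ i → p ∣ 2 ^ i - 1 → p < 2 ^ i := fun i hi h => by
    have h1 : 1 < 2 ^ i := Nat.one_lt_two_pow (by omega)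
    exact lt_of_le_of_lt (Nat.le_of_dvd (by omega) h) (by omega)
  constructor
  · intro he
    refine ((Arith.IsPPD.dvd_iff (r := p) (q := 2) (by norm_num) (by omega) ?_).1 hd)
    refine ⟨hp, ?_, fun i hi hlt h => ?_⟩
    · rw [two_pow_two_mul_sub_one, he]; exact dvd_mul_left _ _
    · have h1 : p ∣ 2 ^ (2 * k) - 1 := by rw [two_pow_two_mul_sub_one, he]; exact dvd_mul_left _ _
      have h2 : p ∣ 2 ^ Nat.gcd i (2 * k) - 1 := by
        rw [← Nat.pow_sub_one_gcd_pow_sub_one]; exact Nat.dvd_gcd h h1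
      have hg : Nat.gcd i (2 * k) ≤ k := by
        obtain ⟨c, hc⟩ := Nat.gcd_dvd_right i (2 * k)
        have hle := Nat.gcd_le_left (2 * k) hi
        rcases Nat.lt_or_ge c 2 with hc2 | hc2
        · interval_cases c <;> omega
        · nlinarith
      have h3 := hbig _ (Nat.gcd_pos_of_pos_left _ hi) h2
      have := Nat.pow_le_pow_right (show 0 < 2 by norm_num) hg
      omega
  · intro he
    refine ((Arith.IsPPD.dvd_iff (r := p) (q := 2) (by norm_num) (by omega) ?_).1 hd)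
    refine ⟨hp, ?_, fun i hi hlt h => ?_⟩
    · rw [show 2 ^ k - 1 = p by omega]
    · have h3 := hbig i hi h
      have := Nat.pow_le_pow_right (show 0 < 2 by norm_num) (show i + 1 ≤ k by omega)
      rw [pow_succ] at this
      omega

/-- Exponents with the same odd primes. -/
theorem pslExp_dvd {n k : ℕ} (hn : 2 ≤ n) (h3 : n ≠ 3)
    (h : ∀ r : ℕ, r.Prime → r ≠ 2 → r ∣ 2 ^ (2 * n) - 1 → r ∣ 2 ^ (2 * k) - 1) : n ∣ k := by
  obtain ⟨r, hr⟩ := Arith.exists_isPPD (a := 2) (n := 2 * n) one_lt_two (by omega)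
    (fun h => h3 (by omega)) (fun h => by omega)
  have h1 := h r hr.1 (fun e => hr.not_dvd_base (by norm_num) (by omega) (e ▸ dvd_rfl)) hr.2.1
  exact Nat.dvd_of_mul_dvd_mul_left two_pos ((hr.dvd_iff (by norm_num) (by omega)).1 h1)

/-- No `PSL(2, p)` with `p` a Fermat or Mersenne prime has the odd primes of `PSL(2, 2^m)`, `m ≥ 4`. -/
theorem special_prime_false {p k m : ℕ} (hp : p.Prime) (hm : 4 ≤ m)
    (hform : p = 2 ^ k + 1 ∨ p + 1 = 2 ^ k)
    (h : ∀ r : ℕ, r.Prime → r ≠ 2 → (r ∣ p * (p ^ 2 - 1) ↔ r ∣ 2 ^ (2 * m) - 1)) : False := by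
  obtain ⟨r, hr⟩ := Arith.exists_isPPD (a := 2) (n := 2 * m) one_lt_two (by omega)
    (fun h => by omega) (fun h => by omega)
  have hr2 : r ≠ 2 := fun e => hr.not_dvd_base (by norm_num) (by omega) (e ▸ dvd_rfl)
  have hr9 := hr.lt (q := 2) (by norm_num) (by omega)
  have hp2 : p ≠ 2 := by
    rintro rfl
    have h1 := (h r hr.1 hr2).2 hr.2.1
    have := Nat.le_of_dvd (by norm_num) h1
    omega
  have hp3 : p ≠ 3 := by
    rintro rfl
    have h1 : r ∣ 3 * 2 ^ 3 := (h r hr.1 hr2).2 hr.2.1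
    rcases hr.1.dvd_mul.1 h1 with h2 | h2
    · have := Nat.le_of_dvd (by norm_num) h2
      omega
    · exact hr2 ((Nat.prime_dvd_prime_iff_eq hr.1 Nat.prime_two).1 (hr.1.dvd_of_dvd_pow h2))
  have hk : 2 ≤ k := by
    have := hp.two_le
    by_contra hk
    interval_cases k <;> rcases hform with e | e <;> omega
  obtain ⟨l, rfl⟩ : ∃ l, k = l + 1 := ⟨k - 1, by omega⟩
  have hpd : p ∣ 2 ^ (2 * m) - 1 := (h p hp hp2).1 (dvd_mul_right _ _)
  have hrp := (h r hr.1 hr2).2 hr.2.1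
  have hsq : p ^ 2 - 1 = (p + 1) * (p - 1) := by simpa using Nat.sq_sub_sq p 1
  rw [hsq] at hrp
  have hnpow : ∀ i, ¬ r ∣ 2 ^ i := fun i hd =>
    hr2 ((Nat.prime_dvd_prime_iff_eq hr.1 Nat.prime_two).1 (hr.1.dvd_of_dvd_pow hd))
  have hord : ∀ i, r ∣ 2 ^ i - 1 → 2 * m ∣ i := fun i => (hr.dvd_iff (by norm_num) (by omega)).1
  have hl1 := Nat.one_le_two_pow (n := l)
  rcases hform with e | e
  · have hkm : l + 1 ∣ m :=
      Nat.dvd_of_mul_dvd_mul_left two_pos ((dvd_of_special_prime hp (by omega) hpd).1 e)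
    rcases hr.1.dvd_mul.1 hrp with hd | hd
    · -- `r = p`
      have hpr := (Nat.prime_dvd_prime_iff_eq hr.1 hp).1 hd
      subst r
      have h1 : 2 * m ∣ 2 * (l + 1) := hord _ (by rw [two_pow_two_mul_sub_one, ← e]; exact dvd_mul_left _ _)
      obtain rfl : m = l + 1 := Nat.dvd_antisymm (Nat.dvd_of_mul_dvd_mul_left two_pos h1) hkm
      have h6 : l + 1 ≠ 6 := fun h6 => by rw [h6] at e; subst e; norm_num at hp
      obtain ⟨s, hs⟩ := Arith.exists_isPPD (a := 2) (n := l + 1) one_lt_two (by omega)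
        (fun h => h6 h.2) (fun h => by omega)
      have hs2 : s ≠ 2 := fun e => hs.not_dvd_base (by norm_num) (by omega) (e ▸ dvd_rfl)
      have hs5 := hs.lt (q := 2) (by norm_num) (by omega)
      have h2 := (h s hs.1 hs2).2 (by rw [two_pow_two_mul_sub_one]; exact hs.2.1.mul_right _)
      rw [hsq, show p + 1 = 2 * (2 ^ l + 1) by rw [e, pow_succ]; ring,
        show p - 1 = 2 ^ (l + 1) by omega] at h2
      have hnp : ∀ i, ¬ s ∣ 2 ^ i := fun i hd =>
        hs2 ((Nat.prime_dvd_prime_iff_eq hs.1 Nat.prime_two).1 (hs.1.dvd_of_dvd_pow hd))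
      have h2l : 2 ^ (l + 1) = 2 ^ l * 2 := pow_succ 2 l
      rcases hs.1.dvd_mul.1 h2 with h2 | h2
      · obtain rfl := (Nat.prime_dvd_prime_iff_eq hs.1 hp).1 h2
        have := Nat.le_of_dvd (by omega) hs.2.1
        omega
      rcases hs.1.dvd_mul.1 h2 with h2 | h2
      · rcases hs.1.dvd_mul.1 h2 with h2 | h2
        · exact hs2 ((Nat.prime_dvd_prime_iff_eq hs.1 Nat.prime_two).1 h2)
        · have h5 := Nat.dvd_sub (h2.mul_left 2) hs.2.1
          rw [show 2 * (2 ^ l + 1) - (2 ^ (l + 1) - 1) = 3 by omega] at h5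
          have := Nat.le_of_dvd (by norm_num) h5
          omega
      · exact hnp _ h2
    · rw [show p + 1 = 2 * (2 ^ l + 1) by rw [e, pow_succ]; ring,
        show p - 1 = 2 ^ (l + 1) by omega] at hd
      rcases hr.1.dvd_mul.1 hd with hd | hd
      · rcases hr.1.dvd_mul.1 hd with hd | hd
        · exact hr2 ((Nat.prime_dvd_prime_iff_eq hr.1 Nat.prime_two).1 hd)
        · have h1 : 2 * m ∣ 2 * l := hord _ (by rw [two_pow_two_mul_sub_one]; exact hd.mul_left _)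
          have h4 := Nat.le_of_dvd (by omega) (hkm.trans (Nat.dvd_of_mul_dvd_mul_left two_pos h1))
          omega
      · exact hnpow _ hd
  · have hkm : l + 1 ∣ 2 * m := (dvd_of_special_prime hp (by omega) hpd).2 e
    rcases hr.1.dvd_mul.1 hrp with hd | hd
    · have hpr := (Nat.prime_dvd_prime_iff_eq hr.1 hp).1 hd
      subst r
      have h1 : 2 * m ∣ l + 1 := hord _ (by rw [← e]; exact dvd_of_eq (by omega))
      have h2 := Nat.dvd_antisymm h1 hkm
      have h3 : p = (2 ^ m - 1) * (2 ^ m + 1) := by rw [← two_pow_two_mul_sub_one, h2]; omega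
      have h4 : 16 ≤ 2 ^ m := by
        calc 16 = 2 ^ 4 := rfl
          _ ≤ _ := Nat.pow_le_pow_right (by norm_num) hm
      rcases hp.eq_one_or_self_of_dvd _ ⟨_, h3⟩ with h5 | h5
      · omega
      · rw [h5] at h3
        have := hp.pos
        nlinarith
    · have h2l : 2 ^ (l + 1) = 2 ^ l * 2 := pow_succ 2 l
      rw [e, show p - 1 = 2 * (2 ^ l - 1) by omega] at hd
      rcases hr.1.dvd_mul.1 hd with hd | hd
      · exact hnpow _ hd
      · rcases hr.1.dvd_mul.1 hd with hd | hd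
        · exact hr2 ((Nat.prime_dvd_prime_iff_eq hr.1 Nat.prime_two).1 hd)
        · have h1 : 2 * m ∣ l := hord _ hd
          have h4 := Nat.le_of_dvd (by omega) (hkm.trans h1)
          omega

end Cfsg.Agent.H86.PrimeGraph
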