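import Cfsg.Agent.H86.PrimeGraph.FrameExt
import Cfsg.Agent.H86.PrimeGraph.PSLTwoEven
import Cfsg.Agent.H27.PermFamily

/-!
# Recognition of `PSL(2, 2^m)` by the prime graph
-/

set_option autoImplicit false
set_option linter.style.haveILetI false

namespace Cfsg.Agent.H86.PrimeGraph

open Subgroup Cfsg.Agent.H65

universe u

variable {G : Type u} [Group G] [Finite G]

/-- Orders of Suzuki type are prime to three. -/
theorem three_not_dvd_suzuki (h : Cfsg.IsSuzuki G) : ¬ 3 ∣ Nat.card G := by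
  obtain ⟨-, m, -, hc⟩ := h
  rw [hc]
  intro h3
  have h2 : 2 ^ (2 * m + 1) % 3 = 2 := by
    rw [pow_succ, pow_mul, Nat.mul_mod, Nat.pow_mod]
    norm_num
  obtain ⟨k, hk⟩ : ∃ k, 2 ^ (2 * m + 1) = 3 * k + 2 := ⟨2 ^ (2 * m + 1) / 3, by omega⟩
  rw [hk, show 3 * k + 2 - 1 = 3 * k + 1 by omega] at h3
  simp [Nat.dvd_iff_mod_eq_zero, Nat.mul_mod, Nat.pow_mod, Nat.add_mod] at h3

/-- In an amalgam a Sylow 2-subgroup has at most `q - 1` central involutions. -/
theorem count_lt_q (hL : CIT.Loc G) (A : CIT.Amalgam G) {S : Subgroup G} (hTS : A.T ≤ S) :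
    count ↥S < A.q := by
  classical
  have hmem : ∀ w : ↥S, w ∈ Subgroup.center ↥S → (w : G) ∈ A.P₁ ⊓ A.P₂ := fun w hw => by
    have hc : ∀ p ∈ S, Commute (w : G) p := fun p hp =>
      (congrArg Subtype.val (Subgroup.mem_center_iff.1 hw ⟨p, hp⟩)).symm
    exact ⟨hL.cent_le A.h₁ fun p hp => hc p (hTS (A.le₁ hp)),
      hL.cent_le A.h₂ fun p hp => hc p (hTS (A.le₂ hp))⟩
  haveI := Fintype.ofFinite ↥(A.P₁ ⊓ A.P₂)
  let f : {w : ↥S // orderOf w = 2 ∧ w ∈ Subgroup.center ↥S} →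
      {z : ↥(A.P₁ ⊓ A.P₂) // z ≠ 1} := fun w =>
    ⟨⟨(w.1 : G), hmem w.1 w.2.2⟩, fun e => H65.ne_one_of_orderOf w.2.1
      (Subtype.ext (congrArg (fun z : ↥(A.P₁ ⊓ A.P₂) => (z : G)) e))⟩
  have hf : Function.Injective f := fun a b h => Subtype.ext (Subtype.ext
    (congrArg (fun z : {z : ↥(A.P₁ ⊓ A.P₂) // z ≠ 1} => (z.1 : G)) h))
  have h1 := Nat.card_le_card_of_injective f hf
  rw [Nat.card_eq_fintype_card (α := {z : ↥(A.P₁ ⊓ A.P₂) // z ≠ 1}), Fintype.card_subtype_compl,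
    Fintype.card_subtype_eq, ← Nat.card_eq_fintype_card, A.cardZ] at h1
  have := A.two_le
  show Nat.card _ < _
  omega

/-- The count for a frame. -/
theorem count_eq_m [IsSimpleGroup G] (F : CIT.Frame G) {S : Sylow 2 G}
    (hSM : (S : Subgroup G) = F.M) : count ↥(S : Subgroup G) = F.m := by
  rw [count_congr (MulEquiv.subgroupCongr hSM), ← F.card_invol]
  refine Nat.card_congr
    { toFun := fun w => ⟨(w.1 : G), by rw [Subgroup.orderOf_coe]; exact w.2.1, w.1.2⟩
      invFun := fun w => ⟨⟨w.1, w.2.2⟩, by rw [Subgroup.orderOf_mk]; exact w.2.1,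
        Subgroup.mem_center_iff.2 fun v => Subtype.ext ((F.mem_M_iff_commute w.2.1 w.2.2).1 v.2).eq⟩
      left_inv := fun w => rfl
      right_inv := fun w => rfl }

/-- Odd primes outside a minimal normal subgroup do not occur. -/
theorem dvd_card_normal (hC : CIT.CIT G) (N : Subgroup G) [N.Normal] [IsSimpleGroup ↥N]
    (hna : ∃ a b : ↥N, a * b ≠ b * a) (heven : Even (Nat.card ↥N)) {r : ℕ} (hr : r.Prime)
    (h2 : r ≠ 2) (hrG : r ∣ Nat.card G) : r ∣ Nat.card ↥N := by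
  classical
  haveI : Fact (Nat.Prime 2) := ⟨Nat.prime_two⟩
  by_contra hrN
  have hCN : CIT.CIT ↥N := hC.subgroup N
  have hns : ¬ Group.IsSolvable ↥N := fun h => by
    obtain ⟨a, b, hab⟩ := hna
    exact hab (IsSimpleGroup.comm_iff_isSolvable.2 h a b)
  have hO : Cfsg.pCore 2 ↥N = ⊥ := by
    refine (inferInstance : (Cfsg.pCore 2 ↥N).Normal).eq_bot_or_eq_top.resolve_right fun h => hns ?_
    have := (Cores.pCore_eq_top_iff.1 h).isNilpotent
    infer_instance
  obtain ⟨S₀⟩ : Nonempty (Sylow 2 ↥N) := inferInstance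
  by_cases hTI : ∀ S T : Sylow 2 ↥N, S ≠ T → (S : Subgroup ↥N) ⊓ (T : Subgroup ↥N) = ⊥
  · obtain ⟨F, -⟩ := exists_frame_of_ti hCN hns hO hTI
    obtain ⟨S, hS⟩ := F.hS
    have hSM : (S : Subgroup ↥N) = F.M := (S.is_maximal' F.isPGroup_M hS).symm
    have h := dvd_count_central hC N hr h2 hrG hrN S
    rw [count_eq_m F hSM] at h
    exact hrN (h.trans ((Dvd.intro _ F.card_N.symm).trans (Subgroup.card_subgroup_dvd_card F.N)))
  · push Not at hTI
    have hL := CIT.loc_of hCN hO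
    obtain ⟨A⟩ := hL.exists_amalgam hTI
    obtain ⟨S, hS⟩ := A.hT₁.2.1.exists_le_sylow
    have h := dvd_count_central hC N hr h2 hrG hrN S
    have hlt := count_lt_q hL A hS
    have h4 := hL.q_le_four A
    haveI : Nontrivial ↥(S : Subgroup ↥N) :=
      (Subgroup.nontrivial_iff_ne_bot _).2 (S.ne_bot_of_dvd_card heven.two_dvd)
    have hpos := count_pos (G := ↥(S : Subgroup ↥N)) S.2
    have hle := Nat.le_of_dvd hpos h
    obtain ⟨g, -, hg, -⟩ := A.three₁
    have := hr.two_le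
    obtain rfl : r = 3 := by omega
    exact hrN (hg ▸ orderOf_dvd_natCard g)

theorem prime_le_seven {r : ℕ} (hr : r.Prime) {a b c d : ℕ} (h : r ∣ 2 ^ a * 3 ^ b * 5 ^ c * 7 ^ d) :
    r ≤ 7 := by
  rcases hr.dvd_mul.1 h with h | h
  · rcases hr.dvd_mul.1 h with h | h
    · rcases hr.dvd_mul.1 h with h | h
      · have := Nat.le_of_dvd two_pos (hr.dvd_of_dvd_pow h); omega
      · have := Nat.le_of_dvd three_pos (hr.dvd_of_dvd_pow h); omega
    · have := Nat.le_of_dvd (by norm_num) (hr.dvd_of_dvd_pow h); omega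
  · exact Nat.le_of_dvd (by norm_num) (hr.dvd_of_dvd_pow h)

/-- A simple group with the odd primes of `PSL(2, 2^m)`, `m ≥ 4`, and centralisers of involutions
2-groups. -/
theorem simple_case {m : ℕ} (hm : 4 ≤ m) [IsSimpleGroup G] (hna : ∃ a b : G, a * b ≠ b * a)
    (hC : CIT.CIT G) (heven : Even (Nat.card G))
    (hπ : ∀ r : ℕ, r.Prime → r ≠ 2 → (r ∣ Nat.card G ↔ r ∣ 2 ^ (2 * m) - 1)) :
    (∀ S T : Sylow 2 G, S ≠ T → (S : Subgroup G) ⊓ (T : Subgroup G) = ⊥) ∧
      Nonempty (G ≃* Matrix.ProjectiveSpecialLinearGroup (Fin 2) (GaloisField 2 m)) := by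
  classical
  haveI : Fact (Nat.Prime 2) := ⟨Nat.prime_two⟩
  have hcomm : ¬ IsMulCommutative G := fun h => by
    obtain ⟨a, b, hab⟩ := hna
    exact hab (h.is_comm.comm a b)
  have h3 : 3 ∣ Nat.card G := (hπ 3 Nat.prime_three (by norm_num)).2 (by
    rw [pow_mul]
    simpa using Nat.sub_dvd_pow_sub_pow 4 1 m)
  obtain ⟨r, hr⟩ := Arith.exists_isPPD (a := 2) (n := 2 * m) one_lt_two (by omega)
    (fun h => by omega) (fun h => by omega)
  have hr2 : r ≠ 2 := fun e => hr.not_dvd_base (by norm_num) (by omega) (e ▸ dvd_rfl)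
  have hr9 := hr.lt (q := 2) (by norm_num) (by omega)
  have hrG := (hπ r hr.1 hr2).2 hr.2.1
  by_cases hTI : ∀ S T : Sylow 2 G, S ≠ T → (S : Subgroup G) ⊓ (T : Subgroup G) = ⊥
  · refine ⟨hTI, ?_⟩
    rcases CIT.classification_of_ti hna hC hTI heven with ⟨n, hn, ⟨e⟩⟩ | h
    · haveI := Fintype.ofFinite (GaloisField 2 n)
      have hcard : Fintype.card (GaloisField 2 n) = 2 ^ n := by
        rw [← Nat.card_eq_fintype_card, GaloisField.card 2 n (by omega)]
      have hc : Nat.card G = 2 ^ n * (2 ^ (2 * n) - 1) := by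
        rw [Nat.card_congr e.toEquiv, card_psl_two_even (by omega) hcard]
      have hodd : ∀ s : ℕ, s.Prime → s ≠ 2 → (s ∣ 2 ^ (2 * n) - 1 ↔ s ∣ 2 ^ (2 * m) - 1) := by
        intro s hs hs2
        rw [← hπ s hs hs2, hc]
        refine ⟨fun h => h.mul_left _, fun h => (hs.dvd_mul.1 h).resolve_left fun h' => hs2 ?_⟩
        exact (Nat.prime_dvd_prime_iff_eq hs Nat.prime_two).1 (hs.dvd_of_dvd_pow h')
      have h1 : m ∣ n := pslExp_dvd (by omega) (by omega) fun s hs hs2 h => (hodd s hs hs2).2 h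
      have hn3 : n ≠ 3 := by
        rintro rfl
        have := Nat.le_of_dvd (by norm_num) h1
        omega
      have h2 : n ∣ m := pslExp_dvd hn hn3 fun s hs hs2 h => (hodd s hs hs2).1 h
      obtain rfl := Nat.dvd_antisymm h1 h2
      exact ⟨e⟩
    · exact absurd h3 (three_not_dvd_suzuki h)
  exfalso
  push Not at hTI
  have hO : Cfsg.pCore 2 G = ⊥ := by
    refine (inferInstance : (Cfsg.pCore 2 G).Normal).eq_bot_or_eq_top.resolve_right fun h => hcomm ?_
    have := (Cores.pCore_eq_top_iff.1 h).isNilpotent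
    exact ⟨⟨IsSimpleGroup.comm_iff_isSolvable.2 inferInstance⟩⟩
  have hL := CIT.loc_of hC hO
  obtain ⟨A⟩ := hL.exists_amalgam hTI
  have h4 := hL.q_le_four A
  have h2 := A.two_le
  obtain ⟨k, hk⟩ := IsPGroup.iff_card.1 A.hT₁.2.1
  rw [A.cardT] at hk
  have hne : A.q ≠ 3 := fun h => by
    rw [h] at hk
    rcases Nat.eq_zero_or_pos k with rfl | hk0
    · norm_num at hk
    · have := dvd_pow_self 2 hk0.ne'
      rw [← hk] at this
      norm_num at this
  obtain hq | hq : A.q = 2 ∨ A.q = 4 := by omega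
  · obtain ⟨F, iF, iFt, hF, ⟨e⟩⟩ := A.psl_two hcomm hL hq
    have hc : ∀ s : ℕ, s.Prime → s ≠ 2 →
        (s ∣ Nat.card G ↔ s ∣ Fintype.card F * (Fintype.card F ^ 2 - 1)) := by
      intro s hs hs2
      rw [Nat.card_congr e.toEquiv, ← Linear.card_PSL_two_mul (F := F)]
      refine ⟨fun h => h.mul_left _, fun h => (hs.dvd_mul.1 h).resolve_left fun h' => hs2 ?_⟩
      exact (Nat.prime_dvd_prime_iff_eq hs Nat.prime_two).1 (h'.trans (Nat.gcd_dvd_left _ _))
    rcases hF with h | h | ⟨hp, j, hj⟩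
    · have h1 := (hc r hr.1 hr2).1 hrG
      rw [h] at h1
      have := prime_le_seven (a := 2) (b := 1) (c := 1) (d := 0) hr.1 (by simpa using h1)
      omega
    · have h1 := (hc r hr.1 hr2).1 hrG
      rw [h] at h1
      have := prime_le_seven (a := 4) (b := 2) (c := 1) (d := 0) hr.1 (by simpa using h1)
      omega
    · refine special_prime_false hp hm (k := j) (hj.imp id fun h => ?_) fun s hs hs2 =>
        (hc s hs hs2).symm.trans (hπ s hs hs2)
      have := hp.two_le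
      omega
  · obtain ⟨F, iF, iFt, hF, ⟨e⟩⟩ := A.psl_three_four hL (A.sylow_four hL hna hq) hq
    have h1 : r ∣ Nat.card (Matrix.SpecialLinearGroup (Fin 3) F) := by
      rw [← Linear.card_center_mul_card_PSL (ι := Fin 3) (F := F)]
      exact (Nat.card_congr e.toEquiv ▸ hrG).mul_left _
    rw [Linear.card_SL_three, hF] at h1
    have := prime_le_seven (a := 6) (b := 3) (c := 1) (d := 1) hr.1 (by simpa using h1)
    omega

/-- Groups with the prime graph of `PSL(2, 2^m)`. -/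
theorem psl_recognition {F : Type*} [Field F] [Fintype F] {m : ℕ} (hm : 4 ≤ m)
    (hF : Fintype.card F = 2 ^ m)
    (hπ : ∀ r : ℕ, r.Prime →
      (r ∣ Nat.card (Matrix.ProjectiveSpecialLinearGroup (Fin 2) F) ↔ r ∣ Nat.card G))
    (he : ∀ r s : ℕ, r.Prime → s.Prime → r ≠ s →
      NoEdge (Matrix.ProjectiveSpecialLinearGroup (Fin 2) F) r s → NoEdge G r s) :
    Nonempty (G ⧸ Cfsg.pCore 2 G ≃* Matrix.ProjectiveSpecialLinearGroup (Fin 2) F) := by
  classical
  haveI : Fact (Nat.Prime 2) := ⟨Nat.prime_two⟩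
  have hcard := card_psl_two_even (by omega) hF
  have hπ' : ∀ r : ℕ, r.Prime → r ≠ 2 → (r ∣ Nat.card G ↔ r ∣ 2 ^ (2 * m) - 1) := by
    intro r hr h2
    rw [← hπ r hr, hcard]
    refine ⟨fun h => (hr.dvd_mul.1 h).resolve_left fun h' => h2 ?_, fun h => h.mul_left _⟩
    exact (Nat.prime_dvd_prime_iff_eq hr Nat.prime_two).1 (hr.dvd_of_dvd_pow h')
  have h16 : 16 ≤ 2 ^ m := by
    calc 16 = 2 ^ 4 := rfl
      _ ≤ _ := Nat.pow_le_pow_right (by norm_num) hm
  have he2 : 2 ^ m % 2 = 0 := Nat.mod_eq_zero_of_dvd (dvd_pow_self 2 (by omega))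
  obtain ⟨r, hr, hrd⟩ := Nat.exists_prime_and_dvd (show 2 ^ m - 1 ≠ 1 by omega)
  obtain ⟨s, hs, hsd⟩ := Nat.exists_prime_and_dvd (show 2 ^ m + 1 ≠ 1 by omega)
  have hr2 : r ≠ 2 := by rintro rfl; omega
  have hs2 : s ≠ 2 := by rintro rfl; omega
  have hrs : r ≠ s := by
    rintro rfl
    have h4 := Nat.dvd_sub hsd hrd
    rw [show 2 ^ m + 1 - (2 ^ m - 1) = 2 by omega] at h4
    exact hr2 ((Nat.prime_dvd_prime_iff_eq hr Nat.prime_two).1 h4)
  have hedge2 : ∀ p : ℕ, p.Prime → p ≠ 2 → NoEdge G 2 p := fun p hp h2 =>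
    he 2 p Nat.prime_two hp (Ne.symm h2) (noEdge_psl_two (by omega) hF hp h2)
  have hC : CIT.CIT G := cit_of_noEdge fun p hp h2 _ => hedge2 p hp h2
  have h2G : 2 ∣ Nat.card G := (hπ 2 Nat.prime_two).1
    (hcard ▸ dvd_mul_of_dvd_left (dvd_pow_self 2 (by omega)) _)
  have hns : ¬ Group.IsSolvable G := not_solvable_of_triangle Nat.prime_two hr hs (Ne.symm hr2) hrs
    (Ne.symm hs2) h2G
    ((hπ' r hr hr2).2 (two_pow_two_mul_sub_one m ▸ hrd.mul_right _))
    ((hπ' s hs hs2).2 (two_pow_two_mul_sub_one m ▸ hsd.mul_left _))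
    (hedge2 r hr hr2) (he r s hr hs hrs (noEdge_psl_split (by omega) hF hr hs hr2 hs2 hrd hsd))
    (hedge2 s hs hs2)
  set Q := G ⧸ Cfsg.pCore 2 G with hQdef
  have hQC : CIT.CIT Q := hC.quotient _ Cores.pCore_isPGroup
  have hQns : ¬ Group.IsSolvable Q := quotient_not_solvable hns
  have hQO : Cfsg.pCore 2 Q = ⊥ := Cores.pCore_quotient_pCore
  have hπQ : ∀ p : ℕ, p.Prime → p ≠ 2 → (p ∣ Nat.card Q ↔ p ∣ 2 ^ (2 * m) - 1) :=
    fun p hp h2 => (odd_dvd_quotient hp h2).trans (hπ' p hp h2)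
  obtain ⟨N, hN, hNs, hna, heven⟩ := exists_simple_normal hQC hQns hQO
  haveI := hN
  haveI := hNs
  have hπN : ∀ p : ℕ, p.Prime → p ≠ 2 → (p ∣ Nat.card ↥N ↔ p ∣ 2 ^ (2 * m) - 1) := fun p hp h2 =>
    ⟨fun h => (hπQ p hp h2).1 (h.trans (Subgroup.card_subgroup_dvd_card N)),
      fun h => dvd_card_normal hQC N hna heven hp h2 ((hπQ p hp h2).2 h)⟩
  obtain ⟨hNTI, ⟨eN⟩⟩ := simple_case hm hna (hQC.subgroup N) heven hπN
  have hTI : ∀ S T : Sylow 2 Q, S ≠ T → (S : Subgroup Q) ⊓ (T : Subgroup Q) = ⊥ := by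
    rcases Nat.even_or_odd N.index with hev | hodd
    · exfalso
      have hNns : ¬ Group.IsSolvable ↥N := fun h => by
        obtain ⟨a, b, hab⟩ := hna
        exact hab (IsSimpleGroup.comm_iff_isSolvable.2 h a b)
      have hNO : Cfsg.pCore 2 ↥N = ⊥ := by
        refine (inferInstance : (Cfsg.pCore 2 ↥N).Normal).eq_bot_or_eq_top.resolve_right fun h => hNns ?_
        have := (Cores.pCore_eq_top_iff.1 h).isNilpotent
        infer_instance
      obtain ⟨Fr, -⟩ := exists_frame_of_ti (hQC.subgroup N) hNns hNO hNTI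
      obtain ⟨k, hk⟩ := IsPGroup.iff_card.1 Fr.isPGroup_M
      obtain ⟨S, hS⟩ := Fr.hS
      have hSM : (S : Subgroup ↥N) = Fr.M := (S.is_maximal' Fr.isPGroup_M hS).symm
      haveI := Fintype.ofFinite (GaloisField 2 m)
      have hc : Nat.card ↥N = 2 ^ m * (2 ^ (2 * m) - 1) := by
        rw [Nat.card_congr eN.toEquiv, card_psl_two_even (n := m) (by omega)
          (by rw [← Nat.card_eq_fintype_card, GaloisField.card 2 m (by omega)])]
      have hodd' : ¬ 2 ∣ 2 ^ (2 * m) - 1 := by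
        intro h
        have := Nat.mod_eq_zero_of_dvd (dvd_pow_self 2 (show 2 * m ≠ 0 by omega))
        have := Nat.one_le_two_pow (n := 2 * m)
        omega
      have hkm : k = m := by
        have h1 := S.card_eq_multiplicity
        rw [hSM, hk, hc, Nat.factorization_mul (by positivity)
          (fun e => hodd' (by rw [e]; exact dvd_zero 2)),
          Finsupp.add_apply, Nat.Prime.factorization_pow Nat.prime_two, Finsupp.single_eq_same,
          Nat.factorization_eq_zero_of_not_dvd hodd', add_zero] at h1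
        exact Nat.pow_right_injective le_rfl h1
      have h1 := frame_card Fr
      rw [hc, hk, hkm, two_pow_two_mul_sub_one] at h1
      have h2 : Fr.m = 2 ^ m - 1 := Nat.eq_of_mul_eq_mul_left (show 0 < (2 ^ m + 1) * 2 ^ m by positivity)
        (by linarith)
      exact false_of_frame_in_normal hQC N Fr (by omega) hev
    · exact ti_of_odd_index N hodd hNTI
  obtain ⟨Fr, hsimp⟩ := exists_frame_of_ti hQC hQns hQO hTI
  haveI := hsimp
  have hNtop : N = ⊤ := hN.eq_bot_or_eq_top.resolve_left fun e => by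
    obtain ⟨a, b, hab⟩ := hna
    subst e
    exact hab (Subsingleton.elim _ _)
  haveI := Fintype.ofFinite (GaloisField 2 m)
  let φ : GaloisField 2 m ≃+* F := FiniteField.ringEquivOfCardEq
    (by rw [hF, ← Nat.card_eq_fintype_card, GaloisField.card 2 m (by omega)])
  exact ⟨(((MulEquiv.subgroupCongr hNtop).trans Subgroup.topEquiv).symm.trans eN).trans
    (H27.PermFamily.pslCongr φ)⟩

end Cfsg.Agent.H86.PrimeGraph
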