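import Cfsg.Agent.H86.PrimeGraph.Triangle
import Cfsg.Agent.H65.CIT.Structure

/-!
# Groups in which `2` is an isolated prime of the prime graph
-/

set_option autoImplicit false
set_option linter.style.haveILetI false

namespace Cfsg.Agent.H86.PrimeGraph

open Subgroup
open Cfsg.Agent.H65

universe u

variable {G : Type u} [Group G] [Finite G]

/-- If `2` has no neighbour, centralisers of involutions are 2-groups. -/
theorem cit_of_noEdge (h : ∀ r : ℕ, r.Prime → r ≠ 2 → r ∣ Nat.card G → NoEdge G 2 r) : CIT.CIT G := by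
  intro t ht c
  by_contra hc
  push Not at hc
  obtain ⟨r, hr, hrd, hr2⟩ : ∃ r : ℕ, r.Prime ∧ r ∣ orderOf c ∧ r ≠ 2 := by
    by_contra hcon
    push Not at hcon
    have h2 : orderOf c = 2 ^ (orderOf c).primeFactorsList.length :=
      Nat.eq_prime_pow_of_unique_prime_dvd (orderOf_pos c).ne' fun {d} hd hdv => hcon d hd hdv
    exact hc _ (h2 ▸ pow_orderOf_eq_one c)
  rw [← Subgroup.orderOf_coe] at hrd
  exact (h r hr hr2 (hrd.trans (orderOf_dvd_natCard _))).not_commute Nat.prime_two hr (Ne.symm hr2)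
    (CIT.mem_cent.1 c.2).symm (dvd_of_eq ht.symm) hrd

/-- An odd prime divides the order of `G/O₂(G)` iff it divides the order of `G`. -/
theorem odd_dvd_quotient {r : ℕ} (hr : r.Prime) (h2 : r ≠ 2) :
    r ∣ Nat.card (G ⧸ Cfsg.pCore 2 G) ↔ r ∣ Nat.card G := by
  haveI : Fact (Nat.Prime 2) := ⟨Nat.prime_two⟩
  rw [← index_eq_card]
  refine ⟨fun h => h.trans (Subgroup.index_dvd_card _), fun h => ?_⟩
  rw [← (Cfsg.pCore 2 G).card_mul_index] at h
  refine (hr.dvd_mul.1 h).resolve_left fun h' => h2 ?_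
  obtain ⟨k, hk⟩ := IsPGroup.iff_card.1 (Cores.pCore_isPGroup (p := 2) (G := G))
  rw [hk] at h'
  exact (Nat.prime_dvd_prime_iff_eq hr Nat.prime_two).1 (hr.dvd_of_dvd_pow h')

theorem quotient_not_solvable (hns : ¬ Group.IsSolvable G) :
    ¬ Group.IsSolvable (G ⧸ Cfsg.pCore 2 G) := fun h => hns <| by
  haveI : Fact (Nat.Prime 2) := ⟨Nat.prime_two⟩
  haveI : Group.IsNilpotent ↥(Cfsg.pCore 2 G) := Cores.pCore_isPGroup.isNilpotent
  exact (Group.isSolvable_iff_subgroup_quotient _).2 ⟨inferInstance, h⟩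

/-- Sylow 2-subgroups are independent, or `3` divides the order. -/
theorem ti_or_three (hC : CIT.CIT G) (hO : Cfsg.pCore 2 G = ⊥) :
    (∀ S T : Sylow 2 G, S ≠ T → (S : Subgroup G) ⊓ (T : Subgroup G) = ⊥) ∨ 3 ∣ Nat.card G := by
  by_cases hTI : ∀ S T : Sylow 2 G, S ≠ T → (S : Subgroup G) ⊓ (T : Subgroup G) = ⊥
  · exact Or.inl hTI
  · push Not at hTI
    obtain ⟨A⟩ := (CIT.loc_of hC hO).exists_amalgam hTI
    obtain ⟨g, -, hg, -⟩ := A.three₁
    exact Or.inr (hg ▸ orderOf_dvd_natCard g)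

/-- With independent Sylow 2-subgroups there is a frame, and the group is simple. -/
theorem exists_frame_of_ti (hC : CIT.CIT G) (hns : ¬ Group.IsSolvable G) (hO : Cfsg.pCore 2 G = ⊥)
    (hTI : ∀ S T : Sylow 2 G, S ≠ T → (S : Subgroup G) ⊓ (T : Subgroup G) = ⊥) :
    ∃ _ : CIT.Frame G, IsSimpleGroup G := by
  classical
  haveI : Fact (Nat.Prime 2) := ⟨Nat.prime_two⟩
  obtain ⟨S⟩ : Nonempty (Sylow 2 G) := inferInstance
  obtain ⟨T, hT⟩ : ∃ T : Sylow 2 G, S ≠ T := by
    by_contra hcon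
    push Not at hcon
    haveI : Subsingleton (Sylow 2 G) := ⟨fun x y => (hcon x).symm.trans (hcon y)⟩
    haveI := S.normal_of_subsingleton
    have h1 := Cores.le_pCore (p := 2) (N := (S : Subgroup G)) S.2
    rw [hO, le_bot_iff] at h1
    exact S.ne_bot_of_dvd_card (even_iff_two_dvd.1 (CIT.even_of_not_solvable hns)) h1
  obtain ⟨F, -⟩ := CIT.exists_frame hC (CIT.oddCore_eq_bot hC hns) hTI S T hT
  exact ⟨F, F.isSimple⟩

/-- The order of a simple group with a frame. -/
theorem frame_card (F : CIT.Frame G) :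
    Nat.card G = (Nat.card ↥F.M + 1) * (F.m * Nat.card ↥F.M) := by
  rw [← F.card_points, ← F.card_N]
  exact Subgroup.card_eq_card_quotient_mul_card_subgroup _

/-- The 2-group kernel of a frame is not commutative if `3` does not divide the order. -/
theorem frame_nonabelian [IsSimpleGroup G] (F : CIT.Frame G) (h3 : ¬ 3 ∣ Nat.card G) :
    ∃ a ∈ F.M, ∃ b ∈ F.M, a * b ≠ b * a := by
  classical
  by_contra hcon
  push Not at hcon
  obtain ⟨hZ, hker⟩ := F.zassenhaus
  obtain ⟨P, hP⟩ := F.exists_ne_base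
  have hc := frame_card F
  obtain ⟨k, hk⟩ := IsPGroup.iff_card.1 F.isPGroup_M
  rcases H28.Zass.kernel_cases hker hZ hP.symm hcon with h | h
  · rw [show Nat.card ↥(MulAction.stabilizer G F.base ⊓ MulAction.stabilizer G P) = F.m from
      F.card_two hP] at h
    refine h3 (hc ▸ ?_)
    rw [← h]
    have : F.m % 3 = 0 ∨ F.m % 3 = 1 ∨ F.m % 3 = 2 := by omega
    rcases this with hm | hm | hm
    · exact dvd_mul_of_dvd_right (dvd_mul_of_dvd_left (Nat.dvd_of_mod_eq_zero hm) _) _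
    · exact dvd_mul_of_dvd_left (Nat.dvd_of_mod_eq_zero (by omega)) _
    · exact dvd_mul_of_dvd_right (dvd_mul_of_dvd_right (Nat.dvd_of_mod_eq_zero (by omega)) _) _
  · have h2 : 2 ∣ Nat.card ↥F.M := F.hz ▸ Subgroup.orderOf_dvd_natCard F.M F.z_mem
    omega

end Cfsg.Agent.H86.PrimeGraph
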