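import Cfsg.Agent.H86.PrimeGraph.NormalSimple
import Mathlib.GroupTheory.FixedPointFree
import Mathlib.GroupTheory.Perm.Cycle.Type

/-!
# A simple group with a frame is not extended by an involution when involutions have 2-group centralisers
-/

set_option autoImplicit false
set_option linter.style.haveILetI false

namespace Cfsg.Agent.H86.PrimeGraph

open Subgroup MulAction Cfsg.Agent.H65

universe u

variable {G : Type u} [Group G] [Finite G]

theorem false_of_frame_in_normal (hC : CIT.CIT G) (N : Subgroup G) [N.Normal] [IsSimpleGroup ↥N]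
    (F : CIT.Frame ↥N) (hm : 4 ≤ F.m) (heven : Even N.index) : False := by
  classical
  haveI : Fact (Nat.Prime 2) := ⟨Nat.prime_two⟩
  obtain ⟨P, hP⟩ := F.exists_ne_base
  obtain ⟨x, -, hxP, -⟩ := F.exists_swap (P := P)
  -- an element outside `N` with square in `N`
  obtain ⟨q, hq⟩ := exists_prime_orderOf_dvd_card' (G := G ⧸ N) 2
    (by rw [← index_eq_card]; exact heven.two_dvd)
  obtain ⟨g, rfl⟩ := QuotientGroup.mk'_surjective N q
  -- adjust it to stabilise `M`
  obtain ⟨S, hS⟩ := F.hS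
  have hSM : (S : Subgroup ↥N) = F.M := (S.is_maximal' F.isPGroup_M hS).symm
  obtain ⟨S', hS'⟩ : ∃ S' : Sylow 2 ↥N, (S' : Subgroup ↥N) =
      F.M.map (MulAut.conjNormal g : MulAut ↥N).toMonoidHom := by
    refine ⟨Sylow.ofCard _ ?_, Sylow.coe_ofCard _ _⟩
    rw [← S.card_eq_multiplicity, hSM]
    exact Subgroup.card_map_of_injective (MulAut.conjNormal g : MulAut ↥N).injective
  obtain ⟨n₀, hn₀⟩ := exists_smul_eq ↥N S' S
  set g₁ : G := (n₀ : G) * g with hg₁
  have hβ : ∀ y : ↥N, MulAut.conjNormal g₁ y = n₀ * MulAut.conjNormal g y * n₀⁻¹ := fun y =>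
    Subtype.ext (by
      rw [MulAut.conjNormal_apply]
      simp only [hg₁, Subgroup.coe_mul, InvMemClass.coe_inv, MulAut.conjNormal_apply]
      group)
  have hM₁ : ∀ y ∈ F.M, MulAut.conjNormal g₁ y ∈ F.M := by
    intro y hy
    rw [hβ, ← hSM, ← hn₀, Sylow.coe_subgroup_smul]
    exact ⟨_, hS' ▸ mem_map_of_mem _ hy, rfl⟩
  -- normalisers are preserved
  have hNpres : ∀ (a : G), (∀ y ∈ F.M, MulAut.conjNormal a y ∈ F.M) →
      ∀ y ∈ F.N, MulAut.conjNormal a y ∈ F.N := by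
    intro a ha y hy
    have hbij : F.M.map (MulAut.conjNormal a : MulAut ↥N).toMonoidHom = F.M := by
      refine Subgroup.eq_of_le_of_card_ge (by rintro _ ⟨z, hz, rfl⟩; exact ha z hz) (le_of_eq ?_)
      exact (Subgroup.card_map_of_injective (MulAut.conjNormal a : MulAut ↥N).injective).symm
    refine Coprime.mem_normalizer_of_map_conj ?_
    conv_rhs => rw [← hbij, ← Coprime.map_conj_eq hy]
    conv_lhs => rw [← hbij]
    rw [Subgroup.map_map, Subgroup.map_map]
    congr 1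
    ext z
    simp [MulAut.conjNormal_apply, mul_assoc]
  have hxN : x ∉ F.N := F.not_mem_N hP hxP
  -- adjust by an element of `M` to stabilise the second point as well
  obtain ⟨a, ha, hax⟩ : ∃ a ∈ F.M, a • ((MulAut.conjNormal g₁ x) • F.base) = P := by
    refine F.regular.2 _ _ (fun e => hxN ?_) hP
    have hinv : MulAut.conjNormal g₁ x ∈ F.N := F.smul_base.1 e
    have hsurj : Function.Bijective fun y : ↥F.N => (⟨_, hNpres g₁ hM₁ y y.2⟩ : ↥F.N) :=
      Finite.injective_iff_bijective.1 fun u v h =>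
        Subtype.ext ((MulAut.conjNormal g₁ : MulAut ↥N).injective (congrArg Subtype.val h))
    obtain ⟨y, hy⟩ := hsurj.2 ⟨_, hinv⟩
    exact (MulAut.conjNormal g₁ : MulAut ↥N).injective (congrArg Subtype.val hy) ▸ y.2
  set g₂ : G := (a : G) * g₁ with hg₂
  have hγ : ∀ y : ↥N, MulAut.conjNormal g₂ y = a * MulAut.conjNormal g₁ y * a⁻¹ := fun y =>
    Subtype.ext (by
      rw [MulAut.conjNormal_apply]
      simp only [hg₂, Subgroup.coe_mul, InvMemClass.coe_inv, MulAut.conjNormal_apply]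
      group)
  have hM₂ : ∀ y ∈ F.M, MulAut.conjNormal g₂ y ∈ F.M := fun y hy => by
    rw [hγ]; exact mul_mem (mul_mem ha (hM₁ y hy)) (inv_mem ha)
  have hx₂ : x⁻¹ * MulAut.conjNormal g₂ x ∈ F.N := by
    have h1 : x⁻¹ * (a * MulAut.conjNormal g₁ x) ∈ F.N := by
      rw [← F.smul_base, mul_smul, mul_smul, hax, inv_smul_eq_iff, hxP]
    rw [hγ, ← mul_assoc]
    exact mul_mem h1 (inv_mem (F.M_le_N ha))
  -- powers
  have hpow : ∀ k : ℕ, (∀ y ∈ F.M, MulAut.conjNormal (g₂ ^ k) y ∈ F.M) ∧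
      x⁻¹ * MulAut.conjNormal (g₂ ^ k) x ∈ F.N := by
    intro k
    induction k with
    | zero => simp
    | succ k ih =>
      refine ⟨fun y hy => ?_, ?_⟩
      · rw [pow_succ', map_mul, MulAut.mul_apply]; exact hM₂ _ (ih.1 y hy)
      · have h1 := hNpres g₂ hM₂ _ ih.2
        rw [map_mul, map_inv] at h1
        have h2 := mul_mem hx₂ h1
        rw [pow_succ', map_mul, MulAut.mul_apply]
        simpa [mul_assoc] using h2
  obtain ⟨e, l, hl, hol⟩ := Nat.exists_eq_two_pow_mul_odd (orderOf_pos g₂).ne'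
  set d : G := g₂ ^ l with hd
  obtain ⟨hMd, hxd⟩ := hpow l
  rw [← hd] at hMd hxd
  -- stabilisers of the two points
  have hmem : ∀ y : ↥N, y ∈ F.two P ↔ y ∈ F.N ∧ x⁻¹ * y * x ∈ F.N := fun y => by
    rw [F.mem_two, F.fix_iff hxP]
  have hdmk : QuotientGroup.mk' N d = QuotientGroup.mk' N g := by
    have h1 : QuotientGroup.mk' N g₂ = QuotientGroup.mk' N g := by
      rw [hg₂, hg₁, map_mul, map_mul, QuotientGroup.mk'_apply, QuotientGroup.mk'_apply,
        (QuotientGroup.eq_one_iff (a : G)).2 a.2, (QuotientGroup.eq_one_iff (n₀ : G)).2 n₀.2,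
        one_mul, one_mul]
    obtain ⟨c, rfl⟩ := hl
    rw [hd, map_pow, h1, pow_succ, pow_mul, ← hq, pow_orderOf_eq_one, one_pow, one_mul]
  have hd2 : d ^ 2 ∈ N := by
    rw [← QuotientGroup.eq_one_iff]
    show QuotientGroup.mk' N (d ^ 2) = 1
    rw [map_pow, hdmk, ← hq, pow_orderOf_eq_one]
  have hdp : d ^ (2 ^ e) = 1 := by
    rw [hd, ← pow_mul, mul_comm, ← hol, pow_orderOf_eq_one]
  have hd1 : d ≠ 1 := fun h => by
    rw [h, map_one] at hdmk
    rw [← hdmk, orderOf_one] at hq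
    norm_num at hq
  have hsq : d * d = 1 := by
    set w : ↥N := ⟨d ^ 2, hd2⟩ with hw
    have hconj : ∀ y : ↥N, w * y * w⁻¹ = MulAut.conjNormal (g₂ ^ (l * 2)) y := fun y => Subtype.ext (by
      rw [MulAut.conjNormal_apply, pow_mul, ← hd]; rfl)
    
    obtain ⟨h1, h2⟩ := hpow (l * 2)
    have hwN : w ∈ F.N := by
      refine Coprime.mem_normalizer_of_map_conj (Subgroup.eq_of_le_of_card_ge ?_
        (le_of_eq (Subgroup.card_map_of_injective (MulAut.conj w).injective).symm))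
      rintro _ ⟨y, hy, rfl⟩
      show w * y * w⁻¹ ∈ F.M
      rw [hconj]; exact h1 y hy
    have hwx : x⁻¹ * w * x ∈ F.N := by
      rw [← hconj] at h2
      have h3 := mul_mem h2 hwN
      simpa [mul_assoc] using h3
    have hw1 : w = 1 := CIT.eq_one_of_pow_two (k := e) (Subtype.ext (by
        rw [SubmonoidClass.coe_pow]
        show (d ^ 2) ^ (2 ^ e) = 1
        rw [← pow_mul, mul_comm, pow_mul, hdp, one_pow]))
      ((F.odd_two hP).of_dvd_nat (Subgroup.orderOf_dvd_natCard _ ((hmem w).2 ⟨hwN, hwx⟩)))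
    have : d ^ 2 = 1 := congrArg Subtype.val hw1
    rwa [pow_two] at this
  have hdo : orderOf d = 2 := H26.orderOf_two_of_mul_self hsq hd1
  let δ : MulAut ↥N := MulAut.conjNormal d
  have hδ2 : ∀ y, δ (δ y) = y := fun y => by
    show MulAut.conjNormal d (MulAut.conjNormal d y) = y
    rw [← MulAut.mul_apply, ← map_mul, hsq, map_one, MulAut.one_apply]
  -- `d` inverts the two-point stabiliser
  have hHpres : ∀ y ∈ F.two P, δ y ∈ F.two P := by
    intro y hy
    obtain ⟨h1, h2⟩ := (hmem y).1 hy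
    refine (hmem _).2 ⟨hNpres d hMd y h1, ?_⟩
    have h3 := mul_mem (mul_mem hxd (hNpres d hMd _ h2)) (inv_mem hxd)
    simpa [δ, map_mul, map_inv, mul_assoc] using h3
  let φ : ↥(F.two P) →* ↥(F.two P) :=
    { toFun := fun y => ⟨δ y, hHpres y y.2⟩
      map_one' := Subtype.ext (map_one δ)
      map_mul' := fun u v => Subtype.ext (map_mul δ (u : ↥N) v) }
  have hfp : MonoidHom.FixedPointFree φ := by
    intro y hy
    have h1 : d * ((y : ↥N) : G) * d⁻¹ = ((y : ↥N) : G) := by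
      have h2 : δ (y : ↥N) = (y : ↥N) := congrArg Subtype.val hy
      rw [← MulAut.conjNormal_apply]
      exact congrArg Subtype.val h2
    have h3 := hC.eq_one_of_commute (H65.ne_one_of_orderOf hdo) (k := 1)
      (by rw [pow_one, pow_two]; exact hsq) (g := ((y : ↥N) : G)) ?_ (mul_inv_eq_iff_eq_mul.1 h1).symm
    · exact Subtype.ext (Subtype.ext h3)
    · rw [Subgroup.orderOf_coe]
      exact (F.odd_two hP).of_dvd_nat (Subgroup.orderOf_dvd_natCard _ y.2)
  have hinv : ∀ y ∈ F.two P, δ y = y⁻¹ := fun y hy => congrArg Subtype.val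
    (congrFun (hfp.coe_eq_inv_of_involutive (φ := φ) fun u => Subtype.ext (hδ2 u)) ⟨y, hy⟩)
  -- a single fixed involution of `M`
  let σ : Equiv.Perm {w : ↥N // orderOf w = 2 ∧ w ∈ F.M} :=
    Function.Involutive.toPerm (fun w => ⟨δ w.1, (MulEquiv.orderOf_eq δ w.1).trans w.2.1, hMd _ w.2.2⟩)
      fun w => Subtype.ext (hδ2 w.1)
  obtain ⟨z₁, hz₁⟩ : ∃ z₁, σ z₁ = z₁ := by
    haveI := Fintype.ofFinite {w : ↥N // orderOf w = 2 ∧ w ∈ F.M}
    refine Equiv.Perm.exists_fixed_point_of_prime (p := 2) (n := 1) ?_ ?_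
    · rw [← Nat.card_eq_fintype_card, F.card_invol, ← F.card_two hP]
      exact fun h => Nat.not_even_iff_odd.2 (F.odd_two hP) (even_iff_two_dvd.2 h)
    · refine Equiv.ext fun w => ?_
      rw [pow_one, pow_two, Equiv.Perm.mul_apply]
      exact Subtype.ext (hδ2 w.1)
  have hfix₁ : δ z₁.1 = z₁.1 := congrArg Subtype.val hz₁
  have huniq : ∀ w : ↥N, w ∈ F.M → orderOf w = 2 → δ w = w → w = z₁.1 := by
    intro w hwM hw hfix
    obtain ⟨e₁, he₁, -, hz⟩ := F.exists_inverted hP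
      (F.exists_swap (P := P)).choose_spec.1 (F.exists_swap (P := P)).choose_spec.2.1 z₁.2.1 z₁.2.2
    obtain ⟨e₂, he₂, -, hw'⟩ := F.exists_inverted hP
      (F.exists_swap (P := P)).choose_spec.1 (F.exists_swap (P := P)).choose_spec.2.1 hw hwM
    set h := e₂ * e₁⁻¹ with hh
    have hhP : h ∈ F.two P := mul_mem he₂ (inv_mem he₁)
    have hconj : h * z₁.1 * h⁻¹ = w := by rw [hh, ← hz, ← hw']; group
    have h1 : h⁻¹ * z₁.1 * h = w := by
      have h2 := congrArg δ hconj
      rw [map_mul, map_mul, map_inv, hinv h hhP, hfix₁, hfix, inv_inv] at h2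
      exact h2
    have hcomm : Commute (h * h) z₁.1 := by
      show h * h * z₁.1 = z₁.1 * (h * h)
      have h2 : h * z₁.1 * h⁻¹ = h⁻¹ * z₁.1 * h := hconj.trans h1.symm
      calc h * h * z₁.1 = h * (h * z₁.1 * h⁻¹) * h := by group
        _ = h * (h⁻¹ * z₁.1 * h) * h := by rw [h2]
        _ = _ := by group
    have h3 : h * h = 1 := F.eq_one_of_mem_two hP ((F.mem_M_iff_commute z₁.2.1 z₁.2.2).2 hcomm)
      (mul_mem hhP hhP)
    have h4 : h = 1 := CIT.eq_one_of_pow_two (k := 1) (by rw [pow_one, pow_two]; exact h3)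
      ((F.odd_two hP).of_dvd_nat (Subgroup.orderOf_dvd_natCard _ hhP))
    rw [← hconj, h4]; group
  -- the elementary abelian group of involutions of `M` has order at most four
  have hcm : ∀ u v : ↥N, orderOf u = 2 → u ∈ F.M → v ∈ F.M → Commute v u := fun u v hu huM hvM =>
    (F.mem_M_iff_commute hu huM).1 hvM
  have hfix3 : ∀ u : {w : ↥N // orderOf w = 2 ∧ w ∈ F.M}, u.1 = z₁.1 ∨ δ u.1 = u.1 * z₁.1 := by
    intro u
    by_cases hu : δ u.1 = u.1
    · exact Or.inl (huniq _ u.2.2 u.2.1 hu)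
    right
    have hδu : orderOf (δ u.1) = 2 := (MulEquiv.orderOf_eq δ u.1).trans u.2.1
    have hc := hcm u.1 (δ u.1) u.2.1 u.2.2 (hMd _ u.2.2)
    have h1 := huniq (u.1 * δ u.1) (mul_mem u.2.2 (hMd _ u.2.2))
      (H65.orderOf_mul_two u.2.1 hδu hc.symm fun e => hu e.symm)
      (by rw [map_mul, hδ2]; exact hc.eq)
    rw [← h1, ← mul_assoc, H65.mul_self_eq_one u.2.1, one_mul]
  haveI := Fintype.ofFinite {w : ↥N // orderOf w = 2 ∧ w ∈ F.M}
  have h4 : 4 ≤ (Finset.univ : Finset {w : ↥N // orderOf w = 2 ∧ w ∈ F.M}).card := by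
    rw [Finset.card_univ, ← Nat.card_eq_fintype_card, F.card_invol]; exact hm
  obtain ⟨A, hA⟩ : ∃ A, A ≠ z₁ := by
    by_contra hcon
    push Not at hcon
    have : (Finset.univ : Finset {w : ↥N // orderOf w = 2 ∧ w ∈ F.M}).card ≤ 1 :=
      Finset.card_le_one.2 fun u _ v _ => (hcon u).trans (hcon v).symm
    omega
  have hall : ∀ B, B = z₁ ∨ B = A ∨ B.1 = A.1 * z₁.1 := by
    intro B
    by_cases hB : B = z₁
    · exact Or.inl hB
    by_cases hBA : B = A
    · exact Or.inr (Or.inl hBA)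
    refine Or.inr (Or.inr ?_)
    have hδA := (hfix3 A).resolve_left fun e => hA (Subtype.ext e)
    have hδB := (hfix3 B).resolve_left fun e => hB (Subtype.ext e)
    have hAB := hcm B.1 A.1 B.2.1 B.2.2 A.2.2
    have hzB := hcm B.1 z₁.1 B.2.1 B.2.2 z₁.2.2
    have h1 := huniq (A.1 * B.1) (mul_mem A.2.2 B.2.2)
      (H65.orderOf_mul_two A.2.1 B.2.1 hAB fun e => hBA (Subtype.ext e.symm)) (by
        rw [map_mul, hδA, hδB, mul_assoc A.1, ← mul_assoc z₁.1, hzB.eq, mul_assoc B.1,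
          H65.mul_self_eq_one z₁.2.1, mul_one])
    rw [← h1, ← mul_assoc, H65.mul_self_eq_one A.2.1, one_mul]
  have hAz : orderOf (A.1 * z₁.1) = 2 := H65.orderOf_mul_two A.2.1 z₁.2.1
    (hcm z₁.1 A.1 z₁.2.1 z₁.2.2 A.2.2) fun e => hA (Subtype.ext e)
  have hsub : (Finset.univ : Finset {w : ↥N // orderOf w = 2 ∧ w ∈ F.M}) ⊆
      {z₁, A, ⟨A.1 * z₁.1, hAz, mul_mem A.2.2 z₁.2.2⟩} := fun B _ => by
    rcases hall B with h | h | h
    · simp [h]
    · simp [h]
    · simp only [Finset.mem_insert, Finset.mem_singleton]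
      exact Or.inr (Or.inr (Subtype.ext h))
  have := (Finset.card_le_card hsub).trans Finset.card_le_three
  omega

end Cfsg.Agent.H86.PrimeGraph
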