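import Cfsg.Agent.H86.PrimeGraph.Recog
import Cfsg.Agent.Coprime.Action

/-!
# Minimal normal subgroups of groups in which centralisers of involutions are 2-groups
-/

set_option autoImplicit false
set_option linter.style.haveILetI false

namespace Cfsg.Agent.H86.PrimeGraph

open Subgroup Cfsg.Agent.H65

universe u

variable {G : Type u} [Group G] [Finite G]

/-- A minimal normal subgroup is simple, non-abelian, of even order. -/
theorem exists_simple_normal (hC : CIT.CIT G) (hns : ¬ Group.IsSolvable G)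
    (hO : Cfsg.pCore 2 G = ⊥) :
    ∃ N : Subgroup G, N.Normal ∧ IsSimpleGroup ↥N ∧ (∃ a b : ↥N, a * b ≠ b * a) ∧
      Even (Nat.card ↥N) := by
  classical
  haveI : Fact (Nat.Prime 2) := ⟨Nat.prime_two⟩
  have hodd := CIT.oddCore_eq_bot hC hns
  haveI : Nontrivial G := by
    by_contra h
    rw [not_nontrivial_iff_subsingleton] at h
    exact hns (Group.isSolvable_of_comm fun a b => Subsingleton.elim _ _)
  haveI : Nonempty {N : Subgroup G // N.Normal ∧ N ≠ ⊥} := ⟨⟨⊤, inferInstance, top_ne_bot⟩⟩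
  obtain ⟨⟨N, hN, hNne⟩, hmin⟩ := Finite.exists_min
    fun N : {N : Subgroup G // N.Normal ∧ N ≠ ⊥} => Nat.card ↥(N.1)
  haveI := hN
  haveI : Nontrivial ↥N := (Subgroup.nontrivial_iff_ne_bot _).2 hNne
  have hNmin : ∀ M : Subgroup G, M.Normal → M ≠ ⊥ → M ≤ N → M = N := fun M h1 h2 h3 =>
    Subgroup.eq_of_le_of_card_ge h3 (hmin ⟨M, h1, h2⟩)
  -- normal 2-subgroups and odd normal subgroups of `N` are trivial
  have hp2 : Cfsg.pCore 2 ↥N = ⊥ := by
    have h1 := Cores.map_pCore_le_of_normal (p := 2) N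
    rw [hO, le_bot_iff, map_eq_bot_iff_of_injective _ N.subtype_injective] at h1
    exact h1
  have ho : ∀ L : Subgroup ↥N, L.Normal → Odd (Nat.card ↥L) → L = ⊥ := fun L hL hodd' => by
    haveI := hL
    have h1 := Cores.map_pPrimeCore_le_of_normal (p := 2) N
    rw [show Cfsg.pPrimeCore 2 G = Cfsg.oddCore G from rfl, hodd, le_bot_iff,
      map_eq_bot_iff_of_injective _ N.subtype_injective] at h1
    exact le_bot_iff.1 (h1 ▸ Cores.le_oddCore hodd')
  haveI hsimp : IsSimpleGroup ↥N := by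
    refine ⟨fun L hL => or_iff_not_imp_left.2 fun hLne => ?_⟩
    haveI : Nonempty {M : Subgroup ↥N // M.Normal ∧ M ≠ ⊥} := ⟨⟨L, hL, hLne⟩⟩
    obtain ⟨⟨L₀, hL₀, hL₀ne⟩, hmin₀⟩ := Finite.exists_min
      fun M : {M : Subgroup ↥N // M.Normal ∧ M ≠ ⊥} => Nat.card ↥(M.1)
    haveI := hL₀
    -- the minimal one is normal in `G`
    set K := L₀.map N.subtype with hK
    have hKN : K ≤ N := map_subtype_le _
    have hKn : ∀ n ∈ N, ∀ x ∈ K, n * x * n⁻¹ ∈ K := by
      rintro n hn _ ⟨y, hy, rfl⟩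
      exact ⟨⟨n, hn⟩ * y * ⟨n, hn⟩⁻¹, hL₀.conj_mem y hy _, rfl⟩
    have hKfix : ∀ g : G, ∀ x ∈ K, g * x * g⁻¹ ∈ K := by
      intro g
      let R : Subgroup ↥N := L₀.map (MulAut.conjNormal g : MulAut ↥N).toMonoidHom
      haveI hR : R.Normal := hL₀.map _ (MulAut.conjNormal g : MulAut ↥N).surjective
      have hRK : ∀ x ∈ K, ∃ y ∈ R, (y : G) = g * x * g⁻¹ := by
        rintro _ ⟨y, hy, rfl⟩
        exact ⟨_, mem_map_of_mem _ hy, MulAut.conjNormal_apply g y⟩
      by_cases hle : L₀ ⊓ R = ⊥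
      swap
      · have hle' : L₀ ≤ R := by
          have := Subgroup.eq_of_le_of_card_ge (inf_le_left : L₀ ⊓ R ≤ L₀)
            (hmin₀ ⟨L₀ ⊓ R, inferInstance, hle⟩)
          exact this ▸ inf_le_right
        have heq : L₀ = R := Subgroup.eq_of_le_of_card_ge hle'
          (le_of_eq (Nat.card_congr (L₀.equivMapOfInjective _
            (MulAut.conjNormal g : MulAut ↥N).injective).toEquiv).symm)
        intro x hx
        obtain ⟨y, hy, hyx⟩ := hRK x hx
        exact ⟨y, heq ▸ hy, hyx⟩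
      exfalso
      have hev : Even (Nat.card ↥L₀) := Nat.not_odd_iff_even.1 fun h => hL₀ne (ho L₀ hL₀ h)
      obtain ⟨t, ht⟩ := exists_prime_orderOf_dvd_card' (G := ↥L₀) 2 hev.two_dvd
      rw [← Subgroup.orderOf_coe] at ht
      have h2 : IsPGroup 2 ↥R := ((hC.subgroup N) _ ht).to_le fun y hy => CIT.mem_cent.2
        (Subgroup.commute_of_normal_of_disjoint R L₀ hR hL₀
          (disjoint_iff.2 (inf_comm L₀ R ▸ hle)) y t hy t.2)
      have h3 := Cores.le_pCore (p := 2) (N := R) h2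
      rw [hp2, le_bot_iff] at h3
      exact hL₀ne ((map_eq_bot_iff_of_injective _ (MulAut.conjNormal g : MulAut ↥N).injective).1 h3)
    have hKeq : K = N := hNmin K ⟨fun x hx g => hKfix g x hx⟩
      (fun e => hL₀ne ((map_eq_bot_iff_of_injective _ N.subtype_injective).1 e)) hKN
    refine Subgroup.eq_top_of_card_eq L (le_antisymm (Subgroup.card_le_card_group L) ?_)
    calc Nat.card ↥N = Nat.card ↥K := by rw [hKeq]
      _ = Nat.card ↥L₀ := Subgroup.card_map_of_injective N.subtype_injective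
      _ ≤ Nat.card ↥L := hmin₀ ⟨L, hL, hLne⟩
  refine ⟨N, hN, hsimp, ?_, ?_⟩
  · by_contra hcomm
    push Not at hcomm
    haveI : IsMulCommutative ↥N := ⟨⟨hcomm⟩⟩
    letI : CommGroup ↥N := { (inferInstance : Group ↥N) with mul_comm := hcomm }
    have hp : (Nat.card ↥N).Prime := IsSimpleGroup.prime_card
    rcases hp.eq_two_or_odd' with h | h
    · have h1 := Cores.le_pCore (p := 2) (N := (⊤ : Subgroup ↥N))
        (IsPGroup.of_card (n := 1) (by rw [Subgroup.card_top, h, pow_one]))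
      rw [hp2, le_bot_iff] at h1
      exact top_ne_bot h1
    · exact top_ne_bot (ho ⊤ inferInstance (by rwa [Subgroup.card_top]))
  · by_contra he
    exact top_ne_bot (ho ⊤ inferInstance (by rw [Subgroup.card_top]; exact Nat.not_even_iff_odd.1 he))

/-- The number of central involutions. -/
noncomputable def count (H : Type*) [Group H] : ℕ :=
  Nat.card {w : H // orderOf w = 2 ∧ w ∈ Subgroup.center H}

omit [Finite G] in
theorem count_congr {H : Type*} [Group H] (e : G ≃* H) : count G = count H :=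
  Nat.card_congr <| Equiv.subtypeEquiv e.toEquiv fun w => by
    show _ ↔ orderOf (e w) = 2 ∧ e w ∈ Subgroup.center H
    rw [MulEquiv.orderOf_eq, Subgroup.mem_center_iff, Subgroup.mem_center_iff]
    refine and_congr_right fun _ => ⟨fun h x => ?_, fun h x => e.injective ?_⟩
    · obtain ⟨x, rfl⟩ := e.surjective x
      rw [← map_mul, ← map_mul, h x]
    · rw [map_mul, map_mul, h (e x)]

theorem count_pos (hP : IsPGroup 2 G) [Nontrivial G] : 1 ≤ count G := by
  haveI : Fact (Nat.Prime 2) := ⟨Nat.prime_two⟩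
  haveI := hP.center_nontrivial
  obtain ⟨k, hk0, hk⟩ := (hP.to_subgroup (Subgroup.center G)).nontrivial_iff_card.1 inferInstance
  obtain ⟨z, hz⟩ := exists_prime_orderOf_dvd_card' (G := ↥(Subgroup.center G)) 2
    (hk ▸ dvd_pow_self 2 hk0.ne')
  haveI : Nonempty {w : G // orderOf w = 2 ∧ w ∈ Subgroup.center G} :=
    ⟨⟨z, (Subgroup.orderOf_coe z).trans hz, z.2⟩⟩
  exact Nat.card_pos

/-- A prime outside a normal subgroup divides the number of central involutions of its Sylow
2-subgroups. -/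
theorem dvd_count_central (hC : CIT.CIT G) (N : Subgroup G) [N.Normal] {r : ℕ} (hr : r.Prime)
    (h2 : r ≠ 2) (hrG : r ∣ Nat.card G) (hrN : ¬ r ∣ Nat.card ↥N) (S : Sylow 2 ↥N) :
    r ∣ count ↥(S : Subgroup ↥N) := by
  classical
  haveI := Fact.mk hr
  haveI : Fact (Nat.Prime 2) := ⟨Nat.prime_two⟩
  obtain ⟨x, hx⟩ := exists_prime_orderOf_dvd_card' (G := G) r hrG
  haveI : IsCyclic ↥(zpowers x) := Subgroup.isCyclic_zpowers x
  obtain ⟨P, hP⟩ := Coprime.exists_invariant_sylow (A := zpowers x) (K := N)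
    (by rw [Subgroup.normalizer_eq_top]; exact le_top)
    (by rw [Nat.card_zpowers, hx]; exact hr.coprime_iff_not_dvd.2 hrN)
    (Or.inl (Group.isSolvable_of_comm fun a b => IsMulCommutative.is_comm.comm a b)) 2
  set P' := (P : Subgroup ↥N).map N.subtype with hP'
  have hxP : x ∈ normalizer (P' : Set G) := hP (mem_zpowers x)
  rw [count_congr ((Sylow.equiv S P).trans
    ((P : Subgroup ↥N).equivMapOfInjective N.subtype N.subtype_injective))]
  let c : ↥P' ≃* ↥P' := (P'.equivMapOfInjective _ (MulAut.conj x).injective).trans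
    (MulEquiv.subgroupCongr (Coprime.map_conj_eq hxP))
  have hcv : ∀ w : ↥P', ((c w : ↥P') : G) = x * (w : G) * x⁻¹ := fun w => rfl
  let σ : Equiv.Perm {w : ↥P' // orderOf w = 2 ∧ w ∈ Subgroup.center ↥P'} :=
    Equiv.subtypeEquiv c.toEquiv fun w => by
      show _ ↔ orderOf (c w) = 2 ∧ c w ∈ Subgroup.center ↥P'
      rw [MulEquiv.orderOf_eq, Subgroup.mem_center_iff, Subgroup.mem_center_iff]
      refine and_congr_right fun _ => ⟨fun h y => ?_, fun h y => c.injective ?_⟩
      · obtain ⟨y, rfl⟩ := c.surjective y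
        rw [← map_mul, ← map_mul, h y]
      · rw [map_mul, map_mul, h (c y)]
  have hpow : ∀ (k : ℕ) w, (((σ ^ k) w).1 : G) = x ^ k * (w.1 : G) * (x ^ k)⁻¹ := by
    intro k
    induction k with
    | zero => intro w; simp
    | succ k ih =>
      intro w
      rw [pow_succ', Equiv.Perm.mul_apply]
      show ((c ((σ ^ k) w).1 : ↥P') : G) = _
      rw [hcv, ih, pow_succ']
      group
  by_contra hd
  unfold count at hd
  haveI := Fintype.ofFinite {w : ↥P' // orderOf w = 2 ∧ w ∈ Subgroup.center ↥P'}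
  rw [Nat.card_eq_fintype_card] at hd
  obtain ⟨w, hw⟩ := Equiv.Perm.exists_fixed_point_of_prime (p := r) (n := 1) hd (σ := σ) <| by
    refine Equiv.ext fun w => Subtype.ext (Subtype.ext ?_)
    rw [pow_one, hpow, ← hx, pow_orderOf_eq_one]
    simp
  have h1 : x * (w.1 : G) * x⁻¹ = w.1 := by
    have := congrArg (fun v => ((v : {w : ↥P' // orderOf w = 2 ∧ w ∈ Subgroup.center ↥P'}).1 : G)) hw
    exact this
  have hw2 : orderOf (w.1 : G) = 2 := by rw [Subgroup.orderOf_coe]; exact w.2.1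
  have h3 := hC.eq_one_of_commute (H65.ne_one_of_orderOf hw2) (k := 1)
    (orderOf_dvd_iff_pow_eq_one.1 (hw2.dvd.trans (dvd_of_eq (pow_one 2).symm))) (g := x)
    (hx ▸ hr.odd_of_ne_two h2) (mul_inv_eq_iff_eq_mul.1 h1)
  rw [h3, orderOf_one] at hx
  exact hr.one_lt.ne hx

/-- Independence of Sylow 2-subgroups passes from a normal subgroup of odd index. -/
theorem ti_of_odd_index (N : Subgroup G) [N.Normal] (hodd : Odd N.index)
    (hTI : ∀ S T : Sylow 2 ↥N, S ≠ T → (S : Subgroup ↥N) ⊓ (T : Subgroup ↥N) = ⊥)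
    (S T : Sylow 2 G) (hne : S ≠ T) : (S : Subgroup G) ⊓ (T : Subgroup G) = ⊥ := by
  haveI : Fact (Nat.Prime 2) := ⟨Nat.prime_two⟩
  have hle : ∀ S : Sylow 2 G, (S : Subgroup G) ≤ N := by
    intro S s hs
    rw [← QuotientGroup.eq_one_iff]
    refine orderOf_eq_one_iff.1 (Nat.eq_one_of_dvd_coprimes (a := orderOf s) (b := N.index) ?_
      (orderOf_map_dvd (QuotientGroup.mk' N) s) ?_)
    · obtain ⟨k, hk⟩ := IsPGroup.iff_orderOf.1 S.2 ⟨s, hs⟩
      rw [← Subgroup.orderOf_mk s hs, hk]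
      exact (Nat.coprime_two_left.2 hodd).pow_left k
    · rw [index_eq_card]; exact orderOf_dvd_natCard _
  have h1 := hTI (S.subtype (hle S)) (T.subtype (hle T)) fun e => hne (Sylow.subtype_injective e)
  rw [Subgroup.eq_bot_iff_forall] at h1 ⊢
  exact fun y hy => congrArg Subtype.val (h1 ⟨y, hle S hy.1⟩ ⟨hy.1, hy.2⟩)

end Cfsg.Agent.H86.PrimeGraph
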