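import Cfsg.Agent.Suzuki.Aut

/-!
# The Suzuki group depends only on the order of the field
-/

set_option autoImplicit false

namespace Cfsg.Agent.H86.PrimeGraph

open Cfsg.Agent.Suzuki Matrix

universe u v

variable {F : Type u} [Field F] [Fintype F] {K : Type v} [Field K] [Fintype K] (m : ℕ)
  [SzField F m] [SzField K m]

omit [SzField F m] [SzField K m] in
theorem map_uMat (φ : F ≃+* K) (a b : F) : (uMat m a b).map φ = uMat m (φ a) (φ b) := by
  ext i j
  fin_cases i <;> fin_cases j <;> simp [uMat, ovf, th_def, map_add, map_mul, map_pow]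

omit [SzField F m] [SzField K m] in
theorem map_tMat (φ : F ≃+* K) (s : Fˣ) :
    (tMat m s).map φ = tMat m (Units.map φ.toMonoidHom s) := by
  ext i j
  fin_cases i <;> fin_cases j <;> simp [tMat, th_def, map_mul, map_pow, map_inv₀]

theorem sz_map_mem (φ : F ≃+* K) {g : Matrix.SpecialLinearGroup (Fin 4) F} (hg : g ∈ Cfsg.Sz F m) :
    Matrix.SpecialLinearGroup.map φ.toRingHom g ∈ Cfsg.Sz K m := by
  have := mem_of_generators m
    (H := (Cfsg.Sz K m).comap ((Matrix.SpecialLinearGroup.map φ.toRingHom).comp (Cfsg.Sz F m).subtype))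
    (fun a b => by
      show Matrix.SpecialLinearGroup.map φ.toRingHom (uSL m a b) ∈ Cfsg.Sz K m
      rw [show Matrix.SpecialLinearGroup.map φ.toRingHom (uSL m a b) = uSL m (φ a) (φ b) from
        Subtype.ext (map_uMat m φ a b)]
      exact uSL_mem_Sz m _ _)
    (fun s => by
      show Matrix.SpecialLinearGroup.map φ.toRingHom (tSL m s) ∈ Cfsg.Sz K m
      rw [show Matrix.SpecialLinearGroup.map φ.toRingHom (tSL m s) =
        tSL m (Units.map φ.toMonoidHom s) from Subtype.ext (map_tMat m φ s)]
      exact tSL_mem_Sz m _)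
    (by
      show Matrix.SpecialLinearGroup.map φ.toRingHom wSL ∈ Cfsg.Sz K m
      have : Matrix.SpecialLinearGroup.map φ.toRingHom
          (wSL : Matrix.SpecialLinearGroup (Fin 4) F) = wSL := by
        apply Subtype.ext
        show ((wSL : Matrix.SpecialLinearGroup (Fin 4) F) : Matrix (Fin 4) (Fin 4) F).map φ = _
        ext i j
        fin_cases i <;> fin_cases j <;> simp [coe_wSL]
      rw [this]; exact wSL_mem_Sz m)
    ⟨g, hg⟩
  exact this

/-- Suzuki groups over isomorphic fields are isomorphic. -/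
noncomputable def szCongr (φ : F ≃+* K) : ↥(Cfsg.Sz F m) ≃* ↥(Cfsg.Sz K m) where
  toFun g := ⟨Matrix.SpecialLinearGroup.map φ.toRingHom g.1, sz_map_mem m φ g.2⟩
  invFun g := ⟨Matrix.SpecialLinearGroup.map φ.symm.toRingHom g.1, sz_map_mem m φ.symm g.2⟩
  left_inv g := Subtype.ext (Subtype.ext (by ext i j; exact φ.symm_apply_apply _))
  right_inv g := Subtype.ext (Subtype.ext (by ext i j; exact φ.apply_symm_apply _))
  map_mul' g h := Subtype.ext (MonoidHom.map_mul _ g.1 h.1)

end Cfsg.Agent.H86.PrimeGraph
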