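import Cfsg.Agent.H86.PrimeGraph.Recog
import Cfsg.Agent.H86.PrimeGraph.SzCongr
import Cfsg.Agent.H70.SzUnique.Main
import Cfsg.Agent.Suzuki.DegreeGraph
import Cfsg.Agent.Arith.LargePrimDiv

/-!
# Recognition of the Suzuki groups by the prime graph
-/

set_option autoImplicit false
set_option linter.style.haveILetI false

namespace Cfsg.Agent.H86.PrimeGraph

open Cfsg.Agent.Suzuki Cfsg.Agent.H65

section sz

variable {F : Type*} [Field F] [Fintype F] (m : ℕ) [SzField F m]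

theorem noEdge_sz_two {r : ℕ} (hr : r.Prime) (h2 : r ≠ 2) : NoEdge ↥(Cfsg.Sz F m) 2 r := by
  intro g hg
  rcases dichotomy m g with ⟨i, hi⟩ | ⟨-, ho⟩
  · have hd : r ∣ 2 ^ i := hi ▸ hg ▸ dvd_mul_left r 2
    exact h2 ((Nat.prime_dvd_prime_iff_eq hr Nat.prime_two).1 (hr.dvd_of_dvd_pow hd))
  · exact Nat.not_even_iff_odd.2 ho (hg ▸ even_two_mul r)

theorem noEdge_sz_split {r s : ℕ} (hr : r.Prime) (hs : s.Prime) (hr2 : r ≠ 2) (hs2 : s ≠ 2)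
    (hrq : r ∣ 2 ^ (2 * m + 1) - 1) (hsq : s ∣ (2 ^ (2 * m + 1)) ^ 2 + 1) :
    NoEdge ↥(Cfsg.Sz F m) r s := by
  have hsep : ∀ p : ℕ, p.Prime → p ∣ 2 ^ (2 * m + 1) - 1 → p ∣ (2 ^ (2 * m + 1)) ^ 2 + 1 → p = 2 := by
    intro p hp h1 h2
    refine (Nat.prime_dvd_prime_iff_eq hp Nat.prime_two).1 ?_
    have h3 : p ∣ (2 ^ (2 * m + 1)) ^ 2 - 1 :=
      h1.trans (by simpa using Nat.sub_dvd_pow_sub_pow (2 ^ (2 * m + 1)) 1 2)
    have h4 := Nat.dvd_sub h2 h3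
    have : 1 ≤ (2 ^ (2 * m + 1)) ^ 2 := Nat.one_le_pow _ _ (Nat.two_pow_pos _)
    rwa [show (2 ^ (2 * m + 1)) ^ 2 + 1 - ((2 ^ (2 * m + 1)) ^ 2 - 1) = 2 by omega] at h4
  intro g hg
  rcases exists_cyclic_part (F := F) m (g := g) with ⟨i, hi⟩ | ⟨V, -, -, hn, hgV⟩
  · have hd : r ∣ 2 ^ i := hi ▸ hg ▸ dvd_mul_right r s
    exact hr2 ((Nat.prime_dvd_prime_iff_eq hr Nat.prime_two).1 (hr.dvd_of_dvd_pow hd))
  · have hd : r * s ∣ Nat.card V := hg ▸ Subgroup.orderOf_dvd_natCard V hgV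
    rcases hn with h | h | h
    · exact hs2 (hsep s hs ((dvd_mul_left s r).trans (h ▸ hd)) hsq)
    · refine hr2 (hsep r hr hrq (((dvd_mul_right r s).trans (h ▸ hd)).trans ?_))
      rw [← aMinus_mul_aPlus]
      exact dvd_mul_left _ _
    · refine hr2 (hsep r hr hrq (((dvd_mul_right r s).trans (h ▸ hd)).trans ?_))
      rw [← aMinus_mul_aPlus]
      exact dvd_mul_right _ _

/-- Prime divisors of `q - 1` and of `q ^ 2 + 1`. -/
theorem exists_primes_sz (hm : 1 ≤ m) : ∃ r s : ℕ, r.Prime ∧ s.Prime ∧ r ≠ 2 ∧ s ≠ 2 ∧ r ≠ s ∧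
    r ∣ 2 ^ (2 * m + 1) - 1 ∧ s ∣ (2 ^ (2 * m + 1)) ^ 2 + 1 := by
  have h8 : 8 ≤ 2 ^ (2 * m + 1) := by
    calc 8 = 2 ^ 3 := rfl
      _ ≤ _ := Nat.pow_le_pow_right (by norm_num) (by omega)
  have he : 2 ^ (2 * m + 1) % 2 = 0 := by rw [pow_succ]; omega
  obtain ⟨r, hr, hrd⟩ := Nat.exists_prime_and_dvd (show 2 ^ (2 * m + 1) - 1 ≠ 1 by omega)
  obtain ⟨s, hs, hsd⟩ := Nat.exists_prime_and_dvd
    (show (2 ^ (2 * m + 1)) ^ 2 + 1 ≠ 1 from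
      fun e => pow_ne_zero 2 (pow_ne_zero _ two_ne_zero) (Nat.succ_injective e))
  have hr2 : r ≠ 2 := by rintro rfl; omega
  have hs2 : s ≠ 2 := by
    rintro rfl
    rw [Nat.dvd_iff_mod_eq_zero, Nat.add_mod, Nat.pow_mod, he] at hsd
    simp at hsd
  refine ⟨r, s, hr, hs, hr2, hs2, fun e => hr2 ?_, hrd, hsd⟩
  subst e
  refine (Nat.prime_dvd_prime_iff_eq hr Nat.prime_two).1 ?_
  have h4 := Nat.dvd_sub hsd (hrd.trans
    (by simpa using Nat.sub_dvd_pow_sub_pow (2 ^ (2 * m + 1)) 1 2 :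
      2 ^ (2 * m + 1) - 1 ∣ (2 ^ (2 * m + 1)) ^ 2 - 1))
  have : 1 ≤ (2 ^ (2 * m + 1)) ^ 2 := Nat.one_le_pow _ _ (Nat.two_pow_pos _)
  rwa [show (2 ^ (2 * m + 1)) ^ 2 + 1 - ((2 ^ (2 * m + 1)) ^ 2 - 1) = 2 by omega] at h4

end sz

/-- Orders of Suzuki groups with the same odd prime divisors. -/
theorem szExp_dvd {n k : ℕ} (hn : 3 ≤ n)
    (h : ∀ r : ℕ, r.Prime → r ≠ 2 → r ∣ (2 ^ n) ^ 2 * (2 ^ n - 1) * ((2 ^ n) ^ 2 + 1) →
      r ∣ (2 ^ k) ^ 2 * (2 ^ k - 1) * ((2 ^ k) ^ 2 + 1)) : n ∣ k := by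
  obtain ⟨r, hr⟩ := Arith.exists_isPPD (a := 2) (n := 4 * n) one_lt_two (by omega)
    (fun h => by omega) (fun h => by omega)
  have hr2 : r ≠ 2 := fun e =>
    hr.not_dvd_base (by norm_num) (by omega) (e ▸ dvd_rfl)
  have hfac : ∀ j : ℕ, 2 ^ (4 * j) - 1 = (2 ^ (2 * j) - 1) * ((2 ^ j) ^ 2 + 1) := by
    intro j
    rw [show 4 * j = 2 * j * 2 by ring, pow_mul 2 (2 * j) 2, ← pow_mul 2 j 2, mul_comm j 2,
      show (2 ^ (2 * j)) ^ 2 - 1 = (2 ^ (2 * j)) ^ 2 - 1 ^ 2 by rw [one_pow], Nat.sq_sub_sq, mul_comm]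
  have h1 : r ∣ (2 ^ n) ^ 2 + 1 :=
    (hr.1.dvd_mul.1 (hfac n ▸ hr.2.1)).resolve_left (hr.2.2 (2 * n) (by omega) (by omega))
  have h2 := h r hr.1 hr2 (h1.mul_left _)
  have h3 : r ∣ 2 ^ (4 * k) - 1 := by
    rcases hr.1.dvd_mul.1 h2 with h2 | h2
    · rcases hr.1.dvd_mul.1 h2 with h2 | h2
      · exact absurd ((Nat.prime_dvd_prime_iff_eq hr.1 Nat.prime_two).1
          (hr.1.dvd_of_dvd_pow (hr.1.dvd_of_dvd_pow h2))) hr2
      · exact h2.trans (by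
          rw [mul_comm 4 k, pow_mul]
          simpa using Nat.sub_dvd_pow_sub_pow (2 ^ k) 1 4)
    · exact hfac k ▸ h2.mul_left _
  have h4 := (hr.dvd_iff (by norm_num) (by omega)).1 h3
  exact Nat.dvd_of_mul_dvd_mul_left (by norm_num) h4

/-- Groups with the prime graph of a Suzuki group. -/
theorem sz_recognition {F : Type*} [Field F] [Fintype F] (m : ℕ) [SzField F m] {G : Type*} [Group G]
    [Finite G]
    (hπ : ∀ r : ℕ, r.Prime → (r ∣ Nat.card ↥(Cfsg.Sz F m) ↔ r ∣ Nat.card G))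
    (he : ∀ r s : ℕ, r.Prime → s.Prime → r ≠ s → NoEdge ↥(Cfsg.Sz F m) r s → NoEdge G r s) :
    Nonempty (G ⧸ Cfsg.pCore 2 G ≃* ↥(Cfsg.Sz F m)) := by
  have hF : Nat.card F = 2 ^ (2 * m + 1) := by
    rw [Nat.card_eq_fintype_card]; exact SzField.card_eq
  have hm : 1 ≤ m := SzField.pos F
  have hcard := card_Sz (F := F) m
  rw [hF] at hcard
  obtain ⟨r, s, hr, hs, hr2, hs2, hrs, hrq, hsq⟩ := exists_primes_sz m hm
  have hedge2 : ∀ p : ℕ, p.Prime → p ≠ 2 → NoEdge G 2 p := fun p hp h2 =>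
    he 2 p Nat.prime_two hp (Ne.symm h2) (noEdge_sz_two m hp h2)
  have hC : CIT.CIT G := cit_of_noEdge fun p hp h2 _ => hedge2 p hp h2
  have h2G : 2 ∣ Nat.card G := (hπ 2 Nat.prime_two).1
    (hcard ▸ dvd_mul_of_dvd_left (dvd_mul_of_dvd_left (dvd_pow (dvd_pow_self 2 (by omega)) (by norm_num)) _) _)
  have hns : ¬ Group.IsSolvable G := not_solvable_of_triangle Nat.prime_two hr hs (Ne.symm hr2) hrs
    (Ne.symm hs2) h2G
    ((hπ r hr).1 (hcard ▸ dvd_mul_of_dvd_left (dvd_mul_of_dvd_right hrq _) _))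
    ((hπ s hs).1 (hcard ▸ dvd_mul_of_dvd_right hsq _))
    (hedge2 r hr hr2) (he r s hr hs hrs (noEdge_sz_split m hr hs hr2 hs2 hrq hsq)) (hedge2 s hs hs2)
  set Q := G ⧸ Cfsg.pCore 2 G with hQ
  have hQC : CIT.CIT Q := hC.quotient _ Cores.pCore_isPGroup
  have hQns : ¬ Group.IsSolvable Q := quotient_not_solvable hns
  have hπQ : ∀ p : ℕ, p.Prime → p ≠ 2 → (p ∣ Nat.card Q ↔ p ∣ Nat.card ↥(Cfsg.Sz F m)) :=
    fun p hp h2 => (odd_dvd_quotient hp h2).trans (hπ p hp).symm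
  have h3 : ¬ 3 ∣ Nat.card Q := fun h =>
    three_not_dvd_card (F := F) m ((hπQ 3 Nat.prime_three (by norm_num)).1 h)
  have hTI := (ti_or_three hQC Cores.pCore_quotient_pCore).resolve_right h3
  obtain ⟨Fr, hsimp⟩ := exists_frame_of_ti hQC hQns Cores.pCore_quotient_pCore hTI
  haveI := hsimp
  obtain ⟨a, ha, b, hb, hab⟩ := frame_nonabelian Fr h3
  obtain ⟨hZ, hker⟩ := Fr.zassenhaus
  obtain ⟨P, hP⟩ := Fr.exists_ne_base
  obtain ⟨k, hk, -, hiso⟩ := H70.SzUnique.exists_mulEquiv_sz hker hZ hP.symm Fr.isPGroup_M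
    ⟨a, ha, b, hb, hab⟩
  haveI : Fact (Nat.Prime 2) := ⟨Nat.prime_two⟩
  let K : Type := GaloisField 2 (2 * k + 1)
  haveI : Fintype K := Fintype.ofFinite K
  have hKc : Fintype.card K = 2 ^ (2 * k + 1) := by
    rw [← Nat.card_eq_fintype_card, GaloisField.card 2 _ (by omega)]
  haveI : SzField K k := ⟨hKc, hk⟩
  obtain ⟨e⟩ := hiso K
  have hcardQ : Nat.card Q = (2 ^ (2 * k + 1)) ^ 2 * (2 ^ (2 * k + 1) - 1) *
      ((2 ^ (2 * k + 1)) ^ 2 + 1) := by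
    rw [Nat.card_congr e.toEquiv, card_Sz, Nat.card_eq_fintype_card, hKc]
  have hmk : m = k := by
    have h1 : 2 * k + 1 ∣ 2 * m + 1 := szExp_dvd (by omega) fun p hp h2 hd =>
      hcard ▸ (hπQ p hp h2).1 (hcardQ ▸ hd)
    have h2 : 2 * m + 1 ∣ 2 * k + 1 := szExp_dvd (by omega) fun p hp h2 hd =>
      hcardQ ▸ (hπQ p hp h2).2 (hcard ▸ hd)
    have := Nat.dvd_antisymm h1 h2
    omega
  subst hmk
  let φ : K ≃+* F := FiniteField.ringEquivOfCardEq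
    (hKc.trans (SzField.card_eq (F := F) (m := m)).symm)
  exact ⟨e.trans (szCongr m φ)⟩

end Cfsg.Agent.H86.PrimeGraph
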