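import Cfsg.Agent.Hall.MinimalNormal
import Cfsg.Agent.Hall.WielandtFull
import Cfsg.Agent.Cores.Basic
import Mathlib.GroupTheory.Sylow

/-!
# A solvable group has no three pairwise non-adjacent primes in its prime graph
-/

set_option autoImplicit false
set_option linter.style.haveILetI false

namespace Cfsg.Agent.H86.PrimeGraph

open Subgroup
open scoped IsMulCommutative

universe u

/-- No element of order `r * s`. -/
def NoEdge (G : Type u) [Group G] (r s : ℕ) : Prop := ∀ g : G, orderOf g ≠ r * s

theorem NoEdge.symm {G : Type u} [Group G] {r s : ℕ} (h : NoEdge G r s) : NoEdge G s r :=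
  fun g => by rw [mul_comm]; exact h g

theorem NoEdge.subgroup {G : Type u} [Group G] {r s : ℕ} (h : NoEdge G r s) (H : Subgroup G) :
    NoEdge H r s := fun g hg => h (g : G) ((Subgroup.orderOf_coe g).trans hg)

theorem NoEdge.quotient {G : Type u} [Group G] [Finite G] {r s : ℕ} (h : NoEdge G r s)
    (N : Subgroup G) [N.Normal] : NoEdge (G ⧸ N) r s := by
  intro q hq
  obtain ⟨g, rfl⟩ := QuotientGroup.mk'_surjective N q
  have hd : r * s ∣ orderOf g := hq ▸ orderOf_map_dvd _ g
  exact h (g ^ (orderOf g / (r * s))) (orderOf_pow_orderOf_div (orderOf_pos g).ne' hd)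

/-- Commuting elements of `r`- and `s`-power order. -/
theorem NoEdge.not_commute {G : Type u} [Group G] [Finite G] {r s : ℕ} (h : NoEdge G r s)
    (hr : r.Prime) (hs : s.Prime) (hne : r ≠ s) {x y : G} (hc : Commute x y)
    (hx : r ∣ orderOf x) (hy : s ∣ orderOf y) : False := by
  refine h (x ^ (orderOf x / r) * y ^ (orderOf y / s)) ?_
  have h1 := orderOf_pow_orderOf_div (orderOf_pos x).ne' hx
  have h2 := orderOf_pow_orderOf_div (orderOf_pos y).ne' hy
  rw [((hc.pow_left _).pow_right _).orderOf_mul_eq_mul_orderOf_of_coprime, h1, h2]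
  rw [h1, h2]
  exact (Nat.coprime_primes hr hs).mpr hne

/-- Orders in a `p`-group. -/
theorem dvd_orderOf_of_mem {G : Type u} [Group G] [Finite G] {p : ℕ} (hp : p.Prime) {P : Subgroup G}
    (hP : IsPGroup p P) {x : G} (hx : x ∈ P) (hx1 : x ≠ 1) : p ∣ orderOf x := by
  haveI := Fact.mk hp
  obtain ⟨k, hk⟩ := IsPGroup.iff_orderOf.mp hP ⟨x, hx⟩
  rw [orderOf_mk] at hk
  rw [hk]
  refine dvd_pow_self p ?_
  rintro rfl
  exact hx1 (orderOf_eq_one_iff.mp (by simpa using hk))

/-- No group of shape `Z ⋊ ⟨y⟩` acts fixed-point-freely on an abelian group. -/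
theorem no_fpf {G : Type u} [Group G] [Finite G] {r s t : ℕ} (hr : r.Prime) (hs : s.Prime)
    (ht : t.Prime) (hrs : r ≠ s) (hst : s ≠ t) (hrt : r ≠ t) (ers : NoEdge G r s)
    (est : NoEdge G s t) (ert : NoEdge G r t)
    (V : Subgroup G) [V.Normal] (hV : IsPGroup r V) (hVne : V ≠ ⊥) (hVc : IsMulCommutative V)
    (Z : Subgroup G) (hZne : Z ≠ ⊥) (hZs : ∀ z ∈ Z, z ^ s = 1)
    (hZc : ∀ a ∈ Z, ∀ b ∈ Z, a * b = b * a) {y : G} (hy : orderOf y = t)
    (hyZ : ∀ z ∈ Z, y * z * y⁻¹ ∈ Z) : False := by
  classical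
  haveI := hVc
  haveI := Fintype.ofFinite Z
  let c : G →* MulAut V := MulAut.conjNormal
  obtain ⟨v, hvV, hv1⟩ := V.bot_or_exists_ne_one.resolve_left hVne
  obtain ⟨z₀, hz₀, hz₀1⟩ := Z.bot_or_exists_ne_one.resolve_left hZne
  have hzord : ∀ z ∈ Z, z ≠ 1 → s ∣ orderOf z := fun z hz h1 => by
    rcases (Nat.dvd_prime hs).mp (orderOf_dvd_of_pow_eq_one (hZs z hz)) with h | h
    · exact absurd (orderOf_eq_one_iff.mp h) h1
    · exact h.symm.dvd
  -- elements of `V` fixed by an element of order divisible by `s` or `t`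
  have hfixV : ∀ (g : G) (w : V) {l : ℕ}, l.Prime → l ≠ r → NoEdge G r l → l ∣ orderOf g →
      c g w = w → w = 1 := by
    intro g w l hl hlr hedge hdvd hfix
    by_contra hw
    have hw' : (w : G) ≠ 1 := fun e => hw (Subtype.ext e)
    have hcomm : Commute (w : G) g := by
      have := congrArg Subtype.val hfix
      rw [MulAut.conjNormal_apply] at this
      exact (mul_inv_eq_iff_eq_mul.mp this).symm
    exact hedge.not_commute hr hl (Ne.symm hlr) hcomm (dvd_orderOf_of_mem hr hV w.2 hw') hdvd
  have hnormZ : ∀ w : V, (∏ z : Z, c (z : G) w) = 1 := by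
    intro w
    refine hfixV z₀ _ hs (Ne.symm hrs) ers (hzord z₀ hz₀ hz₀1) ?_
    rw [map_prod]
    refine Fintype.prod_equiv (Equiv.mulLeft (⟨z₀, hz₀⟩ : Z)) _ _ fun z => ?_
    simp [c, ← MulAut.mul_apply, ← map_mul]
  have hnormG : ∀ g : G, orderOf g = t → ∀ w : V, (∏ k ∈ Finset.range t, c (g ^ k) w) = 1 := by
    intro g hg w
    refine hfixV g _ ht (Ne.symm hrt) ert (dvd_of_eq hg.symm) ?_
    rw [map_prod]
    have h1 : ∀ k, c g (c (g ^ k) w) = c (g ^ (k + 1)) w := fun k => by
      rw [← MulAut.mul_apply, ← map_mul, pow_succ']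
    simp only [h1]
    have h2 := Finset.prod_range_succ' (fun k => c (g ^ k) w) t
    rw [Finset.prod_range_succ] at h2
    have h3 : c (g ^ t) w = c (g ^ 0) w := by rw [← hg, pow_orderOf_eq_one, pow_zero]
    rw [h3] at h2
    exact (mul_right_cancel h2).symm
  have hyk : ∀ k : ℕ, ∀ z ∈ Z, y ^ k * z * (y ^ k)⁻¹ ∈ Z := by
    intro k
    induction k with
    | zero => intro z hz; simpa using hz
    | succ k ih =>
      intro z hz
      have h := hyZ _ (ih z hz)
      rw [pow_succ']
      simpa [mul_assoc] using h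
  -- powers of `z y`
  have hmem : ∀ k : ℕ, ∀ z ∈ Z, (z * y) ^ k * (y ^ k)⁻¹ ∈ Z := by
    intro k
    induction k with
    | zero => intro z _; simp
    | succ k ih =>
      intro z hz
      have h : (z * y) ^ (k + 1) * (y ^ (k + 1))⁻¹
          = ((z * y) ^ k * (y ^ k)⁻¹) * (y ^ k * z * (y ^ k)⁻¹) := by
        rw [pow_succ, pow_succ]; group
      rw [h]
      exact mul_mem (ih z hz) (hyk k z hz)
  have hord : ∀ z ∈ Z, orderOf (z * y) = t := by
    intro z hz
    have hzy1 : z * y ≠ 1 := by
      intro e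
      have : y = z⁻¹ := (eq_inv_of_mul_eq_one_right e)
      have h1 : y ^ s = 1 := by rw [this, inv_pow, hZs z hz, inv_one]
      have h2 := orderOf_dvd_of_pow_eq_one h1
      rw [hy, Nat.prime_dvd_prime_iff_eq ht hs] at h2
      exact hst h2.symm
    haveI := Fact.mk ht
    refine orderOf_eq_prime ?_ hzy1
    by_contra hne
    have hw : (z * y) ^ t ∈ Z := by
      have h := hmem t z hz
      rwa [show y ^ t = 1 by rw [← hy, pow_orderOf_eq_one], inv_one, mul_one] at h
    have hc : Commute ((z * y) ^ t) y := by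
      have h1 : Commute ((z * y) ^ t) (z * y) := Commute.pow_self _ t
      have h2 : Commute ((z * y) ^ t) z⁻¹ := (show Commute ((z * y) ^ t) z from hZc _ hw z hz).inv_right
      simpa using h2.mul_right h1
    exact est.not_commute hs ht hst hc (hzord _ hw hne) (dvd_of_eq hy.symm)
  -- summing the norms
  have hinner : ∀ k ∈ Finset.range t, k ≠ 0 →
      (∏ z : Z, c (((z : G) * y) ^ k) ⟨v, hvV⟩) = 1 := by
    intro k hk hk0
    have hkt : k < t := Finset.mem_range.mp hk
    let N : Z → Z := fun z => ⟨((z : G) * y) ^ k * (y ^ k)⁻¹, hmem k z z.2⟩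
    have hN : Function.Injective N := by
      intro a b hab
      have h1 : ((a : G) * y) ^ k = ((b : G) * y) ^ k :=
        mul_right_cancel (congrArg Subtype.val hab)
      have h3 : ((a : G) * y) = ((b : G) * y) := by
        obtain ⟨i, -, hi⟩ : ∃ i < t + 1, k * i % t = 1 % t := by
          refine ⟨(k : ZMod t)⁻¹.val, ?_, ?_⟩
          · haveI := Fact.mk ht
            exact Nat.lt_succ_of_lt (ZMod.val_lt _)
          · haveI := Fact.mk ht
            rw [← ZMod.natCast_eq_natCast_iff', Nat.cast_mul, ZMod.natCast_zmod_val, Nat.cast_one,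
              mul_inv_cancel₀]
            rw [Ne, ZMod.natCast_eq_zero_iff]
            exact fun hd => absurd (Nat.le_of_dvd (by omega) hd) (by omega)
        have e : ∀ z : Z, (((z : G) * y) ^ k) ^ i = (z : G) * y := fun z => by
          have h5 := pow_mod_orderOf ((z : G) * y) (k * i)
          rw [hord z z.2, hi, Nat.one_mod_eq_one.mpr ht.ne_one, pow_one] at h5
          rw [← pow_mul, ← h5]
        rw [← e a, ← e b, h1]
      exact Subtype.ext (mul_right_cancel h3)
    have hbij : Function.Bijective N := ⟨hN, Finite.surjective_of_injective hN⟩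
    rw [← hnormZ (c (y ^ k) ⟨v, hvV⟩)]
    refine Fintype.prod_bijective N hbij _ _ fun z => ?_
    rw [← MulAut.mul_apply, ← map_mul]
    congr 2
    simp [N]
  have htotal : (∏ k ∈ Finset.range t, ∏ z : Z, c (((z : G) * y) ^ k) ⟨v, hvV⟩) = 1 := by
    rw [Finset.prod_comm]
    exact Finset.prod_eq_one fun z _ => hnormG _ (hord z z.2) _
  rw [Finset.prod_eq_single 0 hinner (fun h => absurd (Finset.mem_range.mpr ht.pos) h)] at htotal
  simp only [pow_zero, map_one, MulAut.one_apply, Finset.prod_const, Finset.card_univ] at htotal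
  have h1 : v ^ Fintype.card Z = 1 := congrArg Subtype.val htotal
  haveI := Fact.mk hs
  have hZp : IsPGroup s Z := fun z => ⟨1, Subtype.ext (by rw [pow_one]; exact hZs z z.2)⟩
  obtain ⟨e, he⟩ := IsPGroup.iff_card.mp hZp
  rw [← Nat.card_eq_fintype_card, he] at h1
  have h2 := (dvd_orderOf_of_mem hr hV hvV hv1).trans (orderOf_dvd_of_pow_eq_one h1)
  exact hrs ((Nat.prime_dvd_prime_iff_eq hr hs).mp (hr.dvd_of_dvd_pow h2))

/-- Solvable groups have no three pairwise non-adjacent primes. -/
theorem not_solvable_of_triangle {G : Type u} [Group G] [Finite G] {r s t : ℕ} (hr : r.Prime)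
    (hs : s.Prime) (ht : t.Prime) (hrs : r ≠ s) (hst : s ≠ t) (hrt : r ≠ t)
    (hrG : r ∣ Nat.card G) (hsG : s ∣ Nat.card G) (htG : t ∣ Nat.card G)
    (ers : NoEdge G r s) (est : NoEdge G s t) (ert : NoEdge G r t) : ¬ Group.IsSolvable G := by
  induction hn : Nat.card G using Nat.strong_induction_on generalizing G r s t with
  | _ n ih =>
    subst hn
    intro hsol
    haveI : Nontrivial G := by
      rw [← Finite.one_lt_card_iff_nontrivial]
      exact lt_of_lt_of_le hr.one_lt (Nat.le_of_dvd Nat.card_pos hrG)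
    obtain ⟨V, p, hVn, hVne, hp, hVp, hVc, -⟩ := Hall.exists_minimal_normal_pgroup (G := G)
    haveI := Fact.mk hp
    obtain ⟨e, he⟩ := IsPGroup.iff_card.mp hVp
    have hlt : Nat.card (G ⧸ V) < Nat.card G := by
      rw [← index_eq_card, ← V.card_mul_index]
      refine lt_mul_of_one_lt_left (Nat.pos_of_ne_zero Subgroup.index_ne_zero_of_finite) ?_
      exact Finite.one_lt_card_iff_nontrivial.mpr ((nontrivial_iff_ne_bot V).mpr hVne)
    have hlost : ∀ {x : ℕ}, x.Prime → x ∣ Nat.card G → ¬ x ∣ Nat.card (G ⧸ V) → x = p := by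
      intro x hx hxG hxq
      rw [← V.card_mul_index, index_eq_card] at hxG
      rcases hx.dvd_mul.mp hxG with h | h
      · rw [he] at h; exact (Nat.prime_dvd_prime_iff_eq hx hp).mp (hx.dvd_of_dvd_pow h)
      · exact absurd h hxq
    have step : ∀ {r s t : ℕ}, r.Prime → s.Prime → t.Prime → r ≠ s → s ≠ t → r ≠ t →
        r ∣ Nat.card G → s ∣ Nat.card G → t ∣ Nat.card G →
        NoEdge G r s → NoEdge G s t → NoEdge G r t → p = r → False := by
      intro r s t hr hs ht hrs hst hrt hrG hsG htG ers est ert hpr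
      rw [hpr] at hVp he
      obtain ⟨M, hM, hMidx⟩ : ∃ M : Subgroup G, M.Normal ∧ M.index.Prime := by
        obtain ⟨M, q, hMn, hq, hidx, -⟩ := Hall.exists_normal_prime_index (G := G)
        exact ⟨M, hMn, hidx ▸ hq⟩
      haveI := hM
      set l := M.index with hl
      have hMlt : Nat.card M < Nat.card G := by
        rw [← M.card_mul_index]
        exact lt_mul_of_one_lt_right Nat.card_pos hMidx.one_lt
      have hnotall : ¬ (r ∣ Nat.card M ∧ s ∣ Nat.card M ∧ t ∣ Nat.card M) := fun ⟨a, b, c⟩ =>
        ih _ hMlt hr hs ht hrs hst hrt a b c (ers.subgroup M) (est.subgroup M) (ert.subgroup M) rfl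
          inferInstance
      have hdvdM : ∀ {x : ℕ}, x.Prime → x ∣ Nat.card G → x ≠ l → x ∣ Nat.card M := by
        intro x hx hxG hxl
        rw [← M.card_mul_index] at hxG
        exact (hx.dvd_mul.mp hxG).resolve_right fun h =>
          hxl ((Nat.prime_dvd_prime_iff_eq hx hMidx).mp h)
      have core : ∀ {s t : ℕ}, s.Prime → t.Prime → r ≠ s → s ≠ t → r ≠ t →
          s ∣ Nat.card G → t ∣ Nat.card G → NoEdge G r s → NoEdge G s t → NoEdge G r t →
          t = l → ¬ t ∣ Nat.card M → False := by
        intro s t hs ht hrs hst hrt hsG htG ers est ert htl htM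
        have hsM := hdvdM hs hsG (htl ▸ hst)
        haveI := Fact.mk hs
        haveI := Fact.mk ht
        obtain ⟨S⟩ : Nonempty (Sylow s M) := inferInstance
        set S' := (S : Subgroup M).map M.subtype with hS'
        have hS'p : IsPGroup s S' := S.2.map _
        have htN : t ∣ Nat.card (normalizer (S' : Set G)) := by
          have h1 := Sylow.normalizer_sup_eq_top S
          have h2 := Cores.card_sup_dvd (normalizer (S' : Set G)) M
          rw [hS'] at h2
          rw [h1, card_top] at h2
          exact (ht.dvd_mul.mp (htG.trans h2)).resolve_right htM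
        obtain ⟨y, hy⟩ := exists_prime_orderOf_dvd_card' (G := normalizer (S' : Set G)) t htN
        have hSne : S' ≠ ⊥ := by
          intro e
          rw [hS', map_eq_bot_iff_of_injective _ M.subtype_injective] at e
          exact S.ne_bot_of_dvd_card hsM e
        haveI : Nontrivial S' := (nontrivial_iff_ne_bot _).mpr hSne
        let Z : Subgroup G :=
          { carrier := {x | x ∈ S' ∧ (∀ u ∈ S', x * u = u * x) ∧ x ^ s = 1}
            one_mem' := ⟨one_mem _, fun u _ => by rw [one_mul, mul_one], one_pow s⟩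
            mul_mem' := fun {a b} ha hb => ⟨mul_mem ha.1 hb.1, fun u hu => by
              rw [mul_assoc, hb.2.1 u hu, ← mul_assoc, ha.2.1 u hu, mul_assoc],
              by rw [(show Commute a b from ha.2.1 b hb.1).mul_pow, ha.2.2, hb.2.2, one_mul]⟩
            inv_mem' := fun {a} ha => ⟨inv_mem ha.1, fun u hu =>
              ((show Commute a u from ha.2.1 u hu).inv_left).eq, by rw [inv_pow, ha.2.2, inv_one]⟩ }
        have hZne : Z ≠ ⊥ := by
          haveI := hS'p.center_nontrivial
          obtain ⟨k, hk0, hk⟩ := (hS'p.to_subgroup (center S')).nontrivial_iff_card.mp inferInstance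
          obtain ⟨z, hz⟩ := exists_prime_orderOf_dvd_card' (G := center S') s
            (hk ▸ dvd_pow_self s hk0.ne')
          intro e
          have hz' : ((z : S') : G) ∈ Z := ⟨(z : S').2, fun u hu =>
            congrArg Subtype.val (mem_center_iff.mp z.2 ⟨u, hu⟩).symm, by
              rw [← SubmonoidClass.coe_pow, ← SubmonoidClass.coe_pow, ← hz, pow_orderOf_eq_one]; rfl⟩
          rw [e, mem_bot] at hz'
          have h0 : z = 1 := Subtype.ext (Subtype.ext hz')
          rw [h0, orderOf_one] at hz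
          exact hs.one_lt.ne hz
        have hyZ : ∀ z ∈ Z, (y : G) * z * (y : G)⁻¹ ∈ Z := by
          intro z hz
          refine ⟨(mem_normalizer_iff.mp y.2 z).mp hz.1, fun u hu => ?_, by
            rw [conj_pow, hz.2.2, mul_one, mul_inv_cancel]⟩
          have hu' : (y : G)⁻¹ * u * y ∈ S' := by
            have := (mem_normalizer_iff.mp (inv_mem y.2) u).mp hu
            simpa using this
          have h3 := hz.2.1 _ hu'
          calc (y : G) * z * (y : G)⁻¹ * u
              = y * (z * ((y : G)⁻¹ * u * y)) * (y : G)⁻¹ := by group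
            _ = y * (((y : G)⁻¹ * u * y) * z) * (y : G)⁻¹ := by rw [h3]
            _ = u * ((y : G) * z * (y : G)⁻¹) := by group
        exact no_fpf hr hs ht hrs hst hrt ers est ert V hVp hVne hVc Z hZne
          (fun z hz => hz.2.2) (fun a ha b hb => ha.2.1 b hb.1)
          ((Subgroup.orderOf_coe y).trans hy) hyZ
      have hrM : r ∣ Nat.card M := by
        by_contra hno
        have hrl : r = l := by_contra fun hne => hno (hdvdM hr hrG hne)
        have hVM : Disjoint V M := disjoint_of_coprime_natCard (by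
          rw [he]
          exact ((hr.coprime_iff_not_dvd).mpr hno).pow_left e)
        have hsM := hdvdM hs hsG (hrl ▸ hrs.symm)
        haveI := Fact.mk hs
        obtain ⟨x, hx⟩ := exists_prime_orderOf_dvd_card' (G := M) s hsM
        obtain ⟨v, hvV, hv1⟩ := V.bot_or_exists_ne_one.resolve_left hVne
        exact ers.not_commute hr hs hrs
          (commute_of_normal_of_disjoint V M hVn hM hVM v x hvV x.2)
          (dvd_orderOf_of_mem hr hVp hvV hv1) (dvd_of_eq ((Subgroup.orderOf_coe x).trans hx).symm)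
      by_cases hsM : s ∣ Nat.card M
      · have htM : ¬ t ∣ Nat.card M := fun h => hnotall ⟨hrM, hsM, h⟩
        exact core hs ht hrs hst hrt hsG htG ers est ert
          (by_contra fun hne => htM (hdvdM ht htG hne)) htM
      · exact core ht hs hrt hst.symm hrs htG hsG ert est.symm ers
          (by_contra fun hne => hsM (hdvdM hs hsG hne)) hsM
    by_cases h1 : r ∣ Nat.card (G ⧸ V)
    · by_cases h2 : s ∣ Nat.card (G ⧸ V)
      · by_cases h3 : t ∣ Nat.card (G ⧸ V)
        · exact ih _ hlt hr hs ht hrs hst hrt h1 h2 h3 (ers.quotient V) (est.quotient V)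
            (ert.quotient V) rfl inferInstance
        · exact step ht hr hs hrt.symm hrs hst.symm htG hrG hsG ert.symm ers est.symm
            (hlost ht htG h3).symm
      · exact step hs hr ht hrs.symm hrt hst hsG hrG htG ers.symm ert est (hlost hs hsG h2).symm
    · exact step hr hs ht hrs hst hrt hrG hsG htG ers est ert (hlost hr hrG h1).symm

end Cfsg.Agent.H86.PrimeGraph
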